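import Cfsg.Agent.H336.SpSix.Def
import Cfsg.Agent.StandardComponent.SpTwoModel
import Cfsg.Agent.StandardComponent.SpTwoAut
import Cfsg.Agent.S0270

/-!
# The isometry group of `V` is `Sp_6(2)`; the homomorphism `N_K(A) → Sp_6(2)`
-/

set_option autoImplicit false

namespace Cfsg.Agent.H336.SpSix

open Matrix Cfsg.Agent.SporRec.TwoSp6
open Cfsg.Agent.ClassicalGeometry.SympBasic

/-- the symplectic group -/
abbrev S := Matrix.symplecticGroup (Fin 3) (ZMod 2)

theorem om_eq (u v : V) : Sp.om u v = om u v := by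
  change Cfsg.sympForm 3 (ZMod 2) u v = om u v
  rw [sympForm_eq_sum, om]
  refine Finset.sum_congr rfl fun i _ => ?_
  have : ∀ a b c d : ZMod 2, a * b - c * d = c * d + a * b := by decide
  rw [this]

/-- the action of the symplectic group -/
def actE (s : S) : V ≃+ V where
  toFun v := Sp.act s v
  invFun v := Sp.act s⁻¹ v
  left_inv v := by
    change Sp.act s⁻¹ (Sp.act s v) = v
    rw [← Sp.act_mul, inv_mul_cancel, Sp.act_one]
  right_inv v := by
    change Sp.act s (Sp.act s⁻¹ v) = v
    rw [← Sp.act_mul, mul_inv_cancel, Sp.act_one]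
  map_add' u v := Sp.act_add s u v

theorem actE_apply (s : S) (v : V) : actE s v = Sp.act s v := rfl

theorem isom_actE (s : S) : Isom (actE s) := fun u v => by
  rw [actE_apply, actE_apply, ← om_eq, Sp.act_om, om_eq]

theorem exists_act_of_isom {g : V ≃+ V} (hg : Isom g) : ∃ s : S, ∀ v, Sp.act s v = g v := by
  let f : V →ₗ[ZMod 2] V := (g : V →+ V).toZModLinearMap 2
  have hf : ∀ v, LinearMap.toMatrix' f *ᵥ v = g v := fun v => by
    rw [← Matrix.toLin'_apply, Matrix.toLin'_toMatrix']; rfl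
  have hM : LinearMap.toMatrix' f ∈ Matrix.symplecticGroup (Fin 3) (ZMod 2) := by
    rw [mem_symplecticGroup_iff]
    intro u v
    rw [hf, hf]
    have := hg u v
    rwa [← om_eq, ← om_eq] at this
  exact ⟨⟨_, hM⟩, hf⟩

theorem isSimple_S : IsSimpleGroup S := by
  have h1 : IsSimpleGroup (Cfsg.PSp 3 (ZMod 2)) :=
    Cfsg.Agent.S0270.result 3 (by norm_num) (fun h => absurd h (by norm_num))
  obtain ⟨e⟩ := Cfsg.Agent.StandardComponent.SpTwoAut.exists_equiv₀
  exact e.symm.isSimpleGroup

theorem card_S : Nat.card S = 1451520 := Sp.card_S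

end Cfsg.Agent.H336.SpSix
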