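import Cfsg.Agent.H336.SpSix.Iso
import Mathlib.GroupTheory.Sylow

/-!
# Basic consequences of `Sit`

* `Sit.rep : N_K(A) →* Sp_6(2)`, kernel `C_K(A)`, onto already on `K0`; normal subgroups of `N_K(A)`;
* orders: `1451520 * 64 ∣ |K|`;
* all elements of `A#` are 2-central and every 2-central element of 2-power order is conjugate into `A`;
* `C_N(a)`-invariant subgroups of `A`; elements centralising `a^⊥`.
-/

set_option autoImplicit false

namespace Cfsg.Agent.H336.SpSix

open Subgroup Pointwise Cfsg.Agent.SporRec.TwoSp6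

/-! ### the vector space -/

/-- the subgroups of `V` invariant under the transvections fixing `a` -/
theorem inv_cases {a : V} (ha : a ≠ 0) (W : AddSubgroup V)
    (hW : ∀ c, om a c = 0 → ∀ w ∈ W, tv c w ∈ W) :
    W = ⊥ ∨ (∀ v, v ∈ W ↔ v = 0 ∨ v = a) ∨ (∀ v, v ∈ W ↔ om a v = 0) ∨ W = ⊤ := by
  by_cases h1 : ∀ w ∈ W, w = 0 ∨ w = a
  · by_cases haW : a ∈ W
    · right; left
      intro v
      refine ⟨h1 v, ?_⟩
      rintro (rfl | rfl)
      · exact W.zero_mem
      · exact haW
    · left
      rw [AddSubgroup.eq_bot_iff_forall]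
      intro w hw
      rcases h1 w hw with h | rfl
      · exact h
      · exact absurd hw haW
  push Not at h1
  obtain ⟨w, hw, hw0, hwa⟩ := h1
  have key : ∀ c, om a c = 0 → om c w = 1 → c ∈ W := by
    intro c hc h
    have := hW c hc w hw
    rw [tv_of_one h] at this
    have h2 := W.add_mem hw this
    rwa [self_add_add] at h2
  have hperp : ∀ c, om a c = 0 → c ∈ W := by
    intro c hc
    rcases z2 (om c w) with h | h
    · obtain ⟨d, hd1, hd2⟩ := exists_om_one_zero hw0 ha hwa
      have h3 : d ∈ W := key d hd2 (by rw [om_comm]; exact hd1)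
      have h4 : c + d ∈ W := key (c + d) (by rw [om_add_right, hc, hd2, add_zero]) (by
        rw [om_add_left, h, om_comm d, hd1, zero_add])
      have h5 := W.add_mem h4 h3
      rwa [add_add_self] at h5
    · exact key c hc h
  right; right
  by_cases h2 : ∀ v ∈ W, om a v = 0
  · left
    exact fun v => ⟨h2 v, hperp v⟩
  · right
    push Not at h2
    obtain ⟨v, hv, hv1⟩ := h2
    have hv1 : om a v = 1 := (z2 _).resolve_left hv1
    rw [eq_top_iff]
    intro u _
    rcases z2 (om a u) with h | h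
    · exact hperp u h
    · have h3 : u + v ∈ W := hperp _ (by rw [om_add_right, h, hv1]; decide)
      have h4 := W.add_mem h3 hv
      rwa [add_add_self] at h4

/-- an isometry trivial on `a^⊥` is `1` or the transvection -/
theorem isom_trivial_perp {a : V} (ha : a ≠ 0) {g : V ≃+ V} (hg : Isom g) (h : ∀ v, om a v = 0 → g v = v) :
    (∀ v, g v = v) ∨ ∀ v, g v = tv a v := by
  obtain ⟨b, hb⟩ := exists_om ha
  have hd : g b + b = 0 ∨ g b + b = a := by
    by_contra hc
    push Not at hc
    obtain ⟨v, hv1, hv2⟩ := exists_om_one_zero hc.1 ha hc.2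
    have h1 := hg b v
    rw [h v hv2] at h1
    rw [om_add_left, h1, z2_add_self] at hv1
    exact absurd hv1 (by decide)
  have hall : ∀ v, om a v = 1 → g v = v + (g b + b) := by
    intro v hv
    have h1 : g (v + b) = v + b := h _ (by rw [om_add_right, hv, hb]; decide)
    rw [map_add] at h1
    have h2 : g v = g v + g b + g b := by rw [add_add_self]
    rw [h2, h1]; abel
  rcases hd with h0 | h0
  · left
    intro v
    rcases z2 (om a v) with h1 | h1
    · exact h v h1
    · rw [hall v h1, h0, add_zero]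
  · right
    intro v
    rcases z2 (om a v) with h1 | h1
    · rw [h v h1, tv_of_zero h1]
    · rw [hall v h1, h0, tv_of_one h1]

namespace Sit

variable {K : Type*} [Group K] {th : V → K} {O K0 : Subgroup K}

theorem exists_rep (h : Sit th O K0) (n : normalizer (h.A : Set K)) :
    ∃ s : S, ∀ v, (n : K) * th v * (n : K)⁻¹ = th (Sp.act s v) := by
  obtain ⟨g, hg, hg'⟩ := h.exists_isom_of_mem n.2
  obtain ⟨s, hs⟩ := exists_act_of_isom hg
  exact ⟨s, fun v => by rw [hg', hs]⟩

/-- the symplectic action of the normaliser -/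
noncomputable def rep (h : Sit th O K0) : normalizer (h.A : Set K) →* S :=
  MonoidHom.mk' (fun n => (h.exists_rep n).choose) (by
    intro m n
    apply Sp.act_ext
    intro v
    apply h.inj
    rw [Sp.act_mul, ← (h.exists_rep (m * n)).choose_spec, ← (h.exists_rep m).choose_spec,
      ← (h.exists_rep n).choose_spec]
    push_cast
    group)

theorem rep_spec (h : Sit th O K0) (n : normalizer (h.A : Set K)) (v : V) :
    (n : K) * th v * (n : K)⁻¹ = th (Sp.act (h.rep n) v) := (h.exists_rep n).choose_spec v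

theorem rep_eq (h : Sit th O K0) (n : normalizer (h.A : Set K)) (s : S)
    (hs : ∀ v, (n : K) * th v * (n : K)⁻¹ = th (Sp.act s v)) : h.rep n = s := by
  apply Sp.act_ext
  intro v
  apply h.inj
  rw [← h.rep_spec, hs]

theorem rep_eq_one (h : Sit th O K0) (n : normalizer (h.A : Set K)) :
    h.rep n = 1 ↔ ∀ v, (n : K) * th v = th v * n := by
  constructor
  · intro h1 v
    have := h.rep_spec n v
    rw [h1, Sp.act_one, mul_inv_eq_iff_eq_mul] at this
    exact this
  · intro h1
    apply h.rep_eq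
    intro v
    rw [Sp.act_one, h1, mul_inv_cancel_right]

theorem rep_surj (h : Sit th O K0) (s : S) : ∃ k, ∃ hk : k ∈ K0, h.rep ⟨k, h.K0_le hk⟩ = s := by
  obtain ⟨k, hk, hk'⟩ := h.full _ (isom_actE s)
  exact ⟨k, hk, h.rep_eq _ _ fun v => by rw [hk', actE_apply]⟩

theorem rep_surjective (h : Sit th O K0) : Function.Surjective h.rep := fun s => by
  obtain ⟨k, hk, h1⟩ := h.rep_surj s
  exact ⟨_, h1⟩

/-- a normal subgroup of the normaliser centralises `A` or induces the full symplectic group -/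
theorem normal_cases (h : Sit th O K0) (M : Subgroup (normalizer (h.A : Set K))) [M.Normal] :
    M ≤ h.rep.ker ∨ M.map h.rep = ⊤ := by
  have hs := isSimple_S
  rcases (Subgroup.Normal.map (inferInstance : M.Normal) h.rep h.rep_surjective).eq_bot_or_eq_top with h1 | h1
  · left
    rwa [Subgroup.map_eq_bot_iff] at h1
  · exact Or.inr h1

theorem card_dvd_normalizer (h : Sit th O K0) : 1451520 * 64 ∣ Nat.card (normalizer (h.A : Set K)) := by
  have h1 : Nat.card (normalizer (h.A : Set K)) = Nat.card S * Nat.card h.rep.ker := by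
    rw [← Nat.card_congr (QuotientGroup.quotientKerEquivOfSurjective _ h.rep_surjective).toEquiv,
      ← Subgroup.card_eq_card_quotient_mul_card_subgroup]
  rw [h1, card_S]
  apply Nat.mul_dvd_mul_left
  rw [← h.card_A]
  have h2 : h.A.subgroupOf (normalizer (h.A : Set K)) ≤ h.rep.ker := by
    rintro ⟨n, hn⟩ hA
    rw [mem_subgroupOf] at hA
    obtain ⟨u, rfl⟩ := hA
    rw [MonoidHom.mem_ker, h.rep_eq_one]
    intro v
    exact h.comm u v
  have h3 := Subgroup.card_dvd_of_le h2
  rwa [Nat.card_congr (Subgroup.subgroupOfEquivOfLe le_normalizer).toEquiv] at h3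

theorem card_dvd (h : Sit th O K0) : 1451520 * 64 ∣ Nat.card K :=
  h.card_dvd_normalizer.trans (Subgroup.card_subgroup_dvd_card _)

/-! ### Sylow subgroups -/

theorem isPGroup_A (h : Sit th O K0) : IsPGroup 2 h.A := by
  rintro ⟨_, v, rfl⟩
  exact ⟨1, Subtype.ext (by
    change th v ^ (2 ^ 1) = 1
    rw [pow_one, pow_two, h.sq])⟩

/-- an element of a 2-subgroup containing `A` and centralising it lies in `A` -/
theorem mem_of_pgroup (h : Sit th O K0) {P : Subgroup K} (hP : IsPGroup 2 P) {x : K} (hx : x ∈ P)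
    (hc : ∀ v, x * th v = th v * x) : x ∈ h.A := by
  obtain ⟨n, hn⟩ := hP ⟨x, hx⟩
  exact h.mem_of_sq hc (n := n) (congrArg Subtype.val hn)

theorem exists_sylow_le [Finite K] {x : K} {n : ℕ} (hx : x ^ 2 ^ n = 1) (hi : ¬ 2 ∣ (centralizer {x}).index) :
    ∃ Q : Sylow 2 K, x ∈ Q ∧ (Q : Subgroup K) ≤ centralizer {x} := by
  have : Fact (Nat.Prime 2) := ⟨Nat.prime_two⟩
  have hxC : x ∈ centralizer {x} := mem_centralizer_singleton_iff.2 rfl
  have h1 : IsPGroup 2 (zpowers (⟨x, hxC⟩ : centralizer {x})) := by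
    rw [IsPGroup.iff_card]
    rw [Nat.card_zpowers]
    have h2 : orderOf (⟨x, hxC⟩ : centralizer {x}) ∣ 2 ^ n := orderOf_dvd_of_pow_eq_one (Subtype.ext hx)
    obtain ⟨k, _, hk⟩ := (Nat.dvd_prime_pow Nat.prime_two).1 h2
    exact ⟨k, hk⟩
  obtain ⟨Q, hQ⟩ := h1.exists_le_sylow
  have hle : (Q : Subgroup (centralizer {x})).map (centralizer {x}).subtype ≤ centralizer {x} := map_subtype_le _
  refine ⟨Sylow.ofCard ((Q : Subgroup (centralizer {x})).map (centralizer {x}).subtype) ?_, ?_, ?_⟩
  · rw [Nat.card_congr ((Q : Subgroup (centralizer {x})).equivMapOfInjective _ (subtype_injective _)).toEquiv.symm,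
      Q.card_eq_multiplicity]
    congr 1
    rw [← (centralizer {x}).card_mul_index, Nat.factorization_mul Nat.card_pos.ne' Subgroup.index_ne_zero_of_finite,
      Finsupp.add_apply, Nat.factorization_eq_zero_of_not_dvd hi, add_zero]
  · change x ∈ (Q : Subgroup (centralizer {x})).map (centralizer {x}).subtype
    exact ⟨⟨x, hxC⟩, hQ (mem_zpowers _), rfl⟩
  · exact hle

/-- the centre of a Sylow subgroup containing `A` is contained in `A` and is nontrivial -/
theorem exists_central [Finite K] (h : Sit th O K0) : ∃ (P : Sylow 2 K) (v : V), v ≠ 0 ∧ h.A ≤ P ∧ ∀ x ∈ P, x * th v = th v * x := by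
  have : Fact (Nat.Prime 2) := ⟨Nat.prime_two⟩
  obtain ⟨P, hP⟩ := h.isPGroup_A.exists_le_sylow
  have hnt : Nontrivial P := by
    have : (Pi.single (Sum.inl 0) 1 : V) ≠ 0 := by
      intro hh; have := congrFun hh (Sum.inl 0); simp at this
    refine ⟨⟨⟨_, hP (h.th_mem (Pi.single (Sum.inl 0) 1))⟩, 1, fun hh => this ?_⟩⟩
    exact (h.eq_one_iff _).1 (congrArg Subtype.val hh)
  have := P.2.center_nontrivial
  obtain ⟨z, hz⟩ := exists_ne (1 : center P)
  have hz2 : ∀ x ∈ P, x * (z : K) = z * x := fun x hx =>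
    congrArg Subtype.val (mem_center_iff.1 z.2 ⟨x, hx⟩)
  obtain ⟨v, hv⟩ := h.mem_of_pgroup P.2 (z : P).2 (fun v => (hz2 _ (hP (h.th_mem v))).symm)
  refine ⟨P, v, ?_, hP, ?_⟩
  · rintro rfl
    rw [h.zero] at hv
    exact hz (Subtype.ext (Subtype.ext hv.symm))
  · intro x hx
    rw [hv, hz2 x hx]

/-- all nonzero elements of `A` are 2-central -/
theorem odd_index [Finite K] (h : Sit th O K0) {v : V} (hv : v ≠ 0) : ¬ 2 ∣ (centralizer {th v}).index := by
  have : Fact (Nat.Prime 2) := ⟨Nat.prime_two⟩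
  obtain ⟨P, u, hu, -, hP⟩ := h.exists_central
  have h1 : ¬ 2 ∣ (centralizer {th u}).index := by
    intro h2
    apply P.not_dvd_index
    refine h2.trans (index_dvd_of_le fun x hx => ?_)
    rw [mem_centralizer_singleton_iff]
    exact hP x hx
  obtain ⟨k, -, hk⟩ := h.exists_conj hu hv
  have h3 : centralizer {th v} = (centralizer {th u}).map (MulAut.conj k).toMonoidHom := by
    ext x
    rw [mem_centralizer_singleton_iff, mem_map]
    constructor
    · intro hx
      refine ⟨k⁻¹ * x * k, ?_, by simp [mul_assoc]⟩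
      rw [mem_centralizer_singleton_iff]
      have : th u = k⁻¹ * th v * k := by rw [← hk]; group
      rw [this]
      calc k⁻¹ * x * k * (k⁻¹ * th v * k) = k⁻¹ * (x * th v) * k := by group
        _ = k⁻¹ * (th v * x) * k := by rw [hx]
        _ = _ := by group
    · rintro ⟨y, hy, rfl⟩
      rw [mem_centralizer_singleton_iff] at hy
      rw [← hk]
      simp only [MulEquiv.coe_toMonoidHom, MulAut.conj_apply]
      calc k * y * k⁻¹ * (k * th u * k⁻¹) = k * (y * th u) * k⁻¹ := by group
        _ = k * (th u * y) * k⁻¹ := by rw [hy]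
        _ = _ := by group
  rw [h3]
  have h4 : (Subgroup.map (MulEquiv.toMonoidHom (MulAut.conj k)) (centralizer {th u})).index =
      (centralizer {th u}).index := Subgroup.index_map_equiv _ (MulAut.conj k)
  rw [h4]
  exact h1

/-- every 2-central element of 2-power order is conjugate to each nonzero element of `A` -/
theorem exists_conj_of_odd_index [Finite K] (h : Sit th O K0) {x : K} (hx1 : x ≠ 1) {n : ℕ} (hx : x ^ 2 ^ n = 1)
    (hi : ¬ 2 ∣ (centralizer {x}).index) {v : V} (hv : v ≠ 0) : ∃ g : K, g * x * g⁻¹ = th v := by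
  have : Fact (Nat.Prime 2) := ⟨Nat.prime_two⟩
  obtain ⟨Q, hxQ, hQ⟩ := exists_sylow_le hx hi
  obtain ⟨P, hP⟩ := h.isPGroup_A.exists_le_sylow
  obtain ⟨g, rfl⟩ := MulAction.exists_smul_eq K Q P
  have h1 : g * x * g⁻¹ ∈ h.A := by
    refine h.mem_of_pgroup (g • Q).2 (x := g * x * g⁻¹) ?_ ?_
    · change g * x * g⁻¹ ∈ (MulAut.conj g) • (Q : Subgroup K)
      rw [Subgroup.mem_pointwise_smul_iff_inv_smul_mem]
      have h5 : (MulAut.conj g)⁻¹ • (g * x * g⁻¹) = x := by
        rw [← map_inv, MulAut.smul_def, MulAut.conj_apply]; group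
      rw [h5]
      exact hxQ
    · intro u
      have h2 : g⁻¹ * th u * g ∈ Q := by
        have h3 := hP (h.th_mem u)
        change th u ∈ (MulAut.conj g) • (Q : Subgroup K) at h3
        rw [Subgroup.mem_pointwise_smul_iff_inv_smul_mem] at h3
        have h5 : (MulAut.conj g)⁻¹ • th u = g⁻¹ * th u * g := by
          rw [← map_inv, MulAut.smul_def, MulAut.conj_apply]; group
        rw [h5] at h3
        exact h3
      have h4 := mem_centralizer_singleton_iff.1 (hQ h2)
      calc g * x * g⁻¹ * th u = g * (x * (g⁻¹ * th u * g)) * g⁻¹ := by group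
        _ = g * ((g⁻¹ * th u * g) * x) * g⁻¹ := by rw [h4]
        _ = _ := by group
  obtain ⟨u, hu⟩ := h1
  have hu0 : u ≠ 0 := by
    rintro rfl
    rw [h.zero] at hu
    exact hx1 (by
      have : x = g⁻¹ * (g * x * g⁻¹) * g := by group
      rw [this, ← hu]; group)
  obtain ⟨k, -, hk⟩ := h.exists_conj hu0 hv
  refine ⟨k * g, ?_⟩
  rw [← hk, hu]; group

/-! ### invariant subgroups -/

/-- intersections of `A` with subgroups normalised by `C_K(a)` -/
theorem inter_cases (h : Sit th O K0) {a : V} (ha : a ≠ 0) (Q : Subgroup K)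
    (hQ : ∀ k ∈ K0, k * th a = th a * k → ∀ x ∈ Q, k * x * k⁻¹ ∈ Q) :
    (∀ v, th v ∈ Q ↔ v = 0) ∨ (∀ v, th v ∈ Q ↔ v = 0 ∨ v = a) ∨ (∀ v, th v ∈ Q ↔ om a v = 0) ∨ ∀ v, th v ∈ Q := by
  let W : AddSubgroup V :=
    { carrier := {v | th v ∈ Q}
      zero_mem' := by change th 0 ∈ Q; rw [h.zero]; exact Q.one_mem
      add_mem' := fun {u v} hu hv => by change th (u + v) ∈ Q; rw [h.add]; exact Q.mul_mem hu hv
      neg_mem' := fun {u} hu => by change th (-u) ∈ Q; rw [v_neg]; exact hu }
  have hW : ∀ v, v ∈ W ↔ th v ∈ Q := fun v => Iff.rfl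
  have hinv : ∀ c, om a c = 0 → ∀ w ∈ W, tv c w ∈ W := by
    intro c hc w hw
    obtain ⟨k, hk, hk'⟩ := h.exists_tv c
    rw [hW] at hw ⊢
    rw [← hk']
    refine hQ k hk ?_ _ hw
    have := hk' a
    rw [tv_of_zero (by rw [om_comm]; exact hc), mul_inv_eq_iff_eq_mul] at this
    exact this
  rcases inv_cases ha W hinv with h1 | h1 | h1 | h1
  · left
    intro v
    rw [← hW, h1, AddSubgroup.mem_bot]
  · right; left; exact h1
  · right; right; left; exact h1
  · right; right; right
    intro v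
    rw [← hW, h1]; trivial

/-- a normalising element that centralises `a^⊥` acts trivially or as the transvection -/
theorem act_of_perp (h : Sit th O K0) {a : V} (ha : a ≠ 0) {n : K} (hn : n ∈ normalizer (h.A : Set K))
    (hc : ∀ v, om a v = 0 → n * th v = th v * n) :
    (∀ v, n * th v * n⁻¹ = th v) ∨ ∀ v, n * th v * n⁻¹ = th (tv a v) := by
  obtain ⟨g, hg, hg'⟩ := h.exists_isom_of_mem hn
  have h1 : ∀ v, om a v = 0 → g v = v := by
    intro v hv
    apply h.inj
    rw [← hg', hc v hv, mul_inv_cancel_right]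
  rcases isom_trivial_perp ha hg h1 with h2 | h2
  · exact Or.inl fun v => by rw [hg', h2]
  · exact Or.inr fun v => by rw [hg', h2]

end Sit

end Cfsg.Agent.H336.SpSix
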