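import Mathlib

/-!
# Elementary abelian subgroups of order 64 with symplectic normaliser: the frame

`V` is the symplectic space of dimension 6 over the field of two elements with the explicit form `om`.
`Sit th O K0` says that `th : V → K` identifies `V` with an elementary abelian subgroup `A` of `K` such that
the centraliser of `A` is `O × A` (`O` of odd order, normalised by the normaliser of `A`), the normaliser of `A` acts
as the full isometry group, and this action splits: `K0 / O` is isomorphic to the isometry group.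
-/

set_option autoImplicit false

namespace Cfsg.Agent.H336.SpSix

/-- the symplectic space -/
abbrev V := Fin 3 ⊕ Fin 3 → ZMod 2

/-- the symplectic form -/
def om (u v : V) : ZMod 2 := ∑ i : Fin 3, (u (Sum.inl i) * v (Sum.inr i) + u (Sum.inr i) * v (Sum.inl i))

theorem z2 (x : ZMod 2) : x = 0 ∨ x = 1 := by revert x; decide

theorem z2_add_self (x : ZMod 2) : x + x = 0 := by revert x; decide

theorem v_add_self (v : V) : v + v = 0 := by
  funext i
  exact z2_add_self _

theorem v_neg (v : V) : -v = v := by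
  rw [neg_eq_iff_add_eq_zero]; exact v_add_self v

theorem v_sub (u v : V) : u - v = u + v := by
  rw [sub_eq_add_neg, v_neg]

theorem add_eq_zero_iff (u v : V) : u + v = 0 ↔ u = v := by
  rw [add_eq_zero_iff_eq_neg, v_neg]

theorem add_add_self (u v : V) : u + v + v = u := by
  rw [add_assoc, v_add_self, add_zero]

theorem self_add_add (u v : V) : u + (u + v) = v := by
  rw [← add_assoc, v_add_self, zero_add]

theorem om_add_left (u v w : V) : om (u + v) w = om u w + om v w := by
  simp only [om, Pi.add_apply, ← Finset.sum_add_distrib]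
  exact Finset.sum_congr rfl fun i _ => by ring

theorem om_comm (u v : V) : om u v = om v u := by
  simp only [om]
  exact Finset.sum_congr rfl fun i _ => by ring

theorem om_add_right (u v w : V) : om u (v + w) = om u v + om u w := by
  rw [om_comm u, om_add_left, om_comm v, om_comm w]

theorem om_self (u : V) : om u u = 0 := by
  simp only [om]
  exact Finset.sum_eq_zero fun i _ => by rw [mul_comm]; exact z2_add_self _

theorem om_zero_left (u : V) : om 0 u = 0 := by simp [om]

theorem om_zero_right (u : V) : om u 0 = 0 := by rw [om_comm, om_zero_left]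

theorem om_smul_left (c : ZMod 2) (u v : V) : om (c • u) v = c * om u v := by
  rcases z2 c with rfl | rfl
  · rw [zero_smul, om_zero_left, zero_mul]
  · rw [one_smul, one_mul]

theorem om_smul_right (c : ZMod 2) (u v : V) : om u (c • v) = c * om u v := by
  rw [om_comm, om_smul_left, om_comm]

theorem om_single_inl (i : Fin 3) (v : V) : om (Pi.single (Sum.inl i) 1) v = v (Sum.inr i) := by
  rw [om, Finset.sum_eq_single i]
  · simp
  · intro j _ hj
    simp [hj]
  · simp

theorem om_single_inr (i : Fin 3) (v : V) : om (Pi.single (Sum.inr i) 1) v = v (Sum.inl i) := by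
  rw [om, Finset.sum_eq_single i]
  · simp
  · intro j _ hj
    simp [hj]
  · simp

theorem eq_zero_of_om {v : V} (h : ∀ u, om u v = 0) : v = 0 := by
  funext i
  rcases i with i | i
  · exact (om_single_inr i v).symm.trans (h _)
  · exact (om_single_inl i v).symm.trans (h _)

theorem exists_om {v : V} (h : v ≠ 0) : ∃ u, om v u = 1 := by
  by_contra hc
  push Not at hc
  refine h (eq_zero_of_om fun u => ?_)
  rw [om_comm]
  exact (z2 _).resolve_right (hc u)

/-- two different nonzero vectors are independent -/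
theorem exists_om_one_zero {u v : V} (hu : u ≠ 0) (hv : v ≠ 0) (huv : u ≠ v) :
    ∃ c, om u c = 1 ∧ om v c = 0 := by
  obtain ⟨c1, h1⟩ := exists_om hu
  rcases z2 (om v c1) with h | h
  · exact ⟨c1, h1, h⟩
  have hs : u + v ≠ 0 := fun hh => huv ((add_eq_zero_iff _ _).1 hh)
  obtain ⟨c2, h2⟩ := exists_om hs
  rw [om_add_left] at h2
  rcases z2 (om u c2) with h3 | h3
  · refine ⟨c1 + c2, ?_, ?_⟩
    · rw [om_add_right, h1, h3, add_zero]
    · rw [h3, zero_add] at h2
      rw [om_add_right, h, h2]; decide
  · refine ⟨c2, h3, ?_⟩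
    rw [h3] at h2
    rcases z2 (om v c2) with h4 | h4
    · exact h4
    · rw [h4] at h2; exact absurd h2 (by decide)

theorem exists_om_pair {u v : V} (hu : u ≠ 0) (hv : v ≠ 0) (huv : u ≠ v) (x y : ZMod 2) :
    ∃ c, om u c = x ∧ om v c = y := by
  obtain ⟨c, h1, h2⟩ := exists_om_one_zero hu hv huv
  obtain ⟨d, h3, h4⟩ := exists_om_one_zero hv hu huv.symm
  refine ⟨x • c + y • d, ?_, ?_⟩
  · rw [om_add_right, om_smul_right, om_smul_right, h1, h4]; ring
  · rw [om_add_right, om_smul_right, om_smul_right, h2, h3]; ring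

/-- the symplectic transvections -/
def tv (a : V) : V ≃+ V where
  toFun v := v + om a v • a
  invFun v := v + om a v • a
  left_inv v := by
    simp only [om_add_right, om_smul_right, om_self, mul_zero, add_zero]
    rw [add_assoc, v_add_self, add_zero]
  right_inv v := by
    simp only [om_add_right, om_smul_right, om_self, mul_zero, add_zero]
    rw [add_assoc, v_add_self, add_zero]
  map_add' u v := by
    rw [om_add_right, add_smul]; abel

theorem tv_apply (a v : V) : tv a v = v + om a v • a := rfl

theorem tv_of_zero {a v : V} (h : om a v = 0) : tv a v = v := by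
  rw [tv_apply, h, zero_smul, add_zero]

theorem tv_of_one {a v : V} (h : om a v = 1) : tv a v = v + a := by
  rw [tv_apply, h, one_smul]

/-- isometries -/
def Isom (g : V ≃+ V) : Prop := ∀ u v, om (g u) (g v) = om u v

theorem Isom.symm {g : V ≃+ V} (h : Isom g) : Isom g.symm := fun u v => by
  rw [← h, AddEquiv.apply_symm_apply, AddEquiv.apply_symm_apply]

theorem Isom.trans {g g' : V ≃+ V} (h : Isom g) (h' : Isom g') : Isom (g.trans g') := fun u v => by
  rw [AddEquiv.trans_apply, AddEquiv.trans_apply, h', h]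

theorem isom_refl : Isom (AddEquiv.refl V) := fun _ _ => rfl

theorem isom_tv (a : V) : Isom (tv a) := fun u v => by
  rw [tv_apply, tv_apply, om_add_left, om_add_right, om_add_right, om_smul_left, om_smul_left, om_smul_right,
    om_smul_right, om_self, om_comm u a]
  linear_combination om a u * z2_add_self (om a v)

/-- the isometries are transitive on the nonzero vectors -/
theorem exists_isom {u v : V} (hu : u ≠ 0) (hv : v ≠ 0) : ∃ g : V ≃+ V, Isom g ∧ g u = v := by
  have key : ∀ u v : V, om u v = 1 → tv (u + v) u = v := by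
    intro u v h
    rw [tv_of_one, ← add_assoc, v_add_self, zero_add]
    rw [om_add_left, om_self, zero_add, om_comm, h]
  by_cases huv : u = v
  · exact ⟨_, isom_refl, huv⟩
  obtain ⟨c, h1, h2⟩ := exists_om_pair hu hv huv 1 1
  refine ⟨(tv (u + c)).trans (tv (c + v)), (isom_tv _).trans (isom_tv _), ?_⟩
  rw [AddEquiv.trans_apply, key u c h1, key c v (by rw [om_comm, h2])]

/-- the situation: `th` identifies `V` with an elementary abelian subgroup of order 64 -/
structure Sit {K : Type*} [Group K] (th : V → K) (O K0 : Subgroup K) : Prop where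
  add : ∀ u v, th (u + v) = th u * th v
  inj : Function.Injective th
  odd : Odd (Nat.card O)
  oc : ∀ x ∈ O, ∀ v, x * th v = th v * x
  oN : ∀ x ∈ O, ∀ n : K, (∀ v, ∃ u, n * th v * n⁻¹ = th u) → n * x * n⁻¹ ∈ O
  cent : ∀ x : K, (∀ v, x * th v = th v * x) → ∃ o ∈ O, ∃ v, x = o * th v
  act : ∀ n : K, (∀ v, ∃ u, n * th v * n⁻¹ = th u) →
    ∀ u v u' v', n * th u * n⁻¹ = th u' → n * th v * n⁻¹ = th v' → om u' v' = om u v
  k0 : ∀ k ∈ K0, ∀ v, ∃ u, k * th v * k⁻¹ = th u
  le : O ≤ K0
  k0c : ∀ k ∈ K0, (∀ v, k * th v = th v * k) → k ∈ O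
  full : ∀ g : V ≃+ V, Isom g → ∃ k ∈ K0, ∀ v, k * th v * k⁻¹ = th (g v)

namespace Sit

variable {K : Type*} [Group K] {th : V → K} {O K0 : Subgroup K}

theorem zero (h : Sit th O K0) : th 0 = 1 := by
  have := h.add 0 0
  rw [add_zero] at this
  exact left_eq_mul.mp this

theorem sq (h : Sit th O K0) (v : V) : th v * th v = 1 := by
  rw [← h.add, v_add_self, h.zero]

theorem inv (h : Sit th O K0) (v : V) : (th v)⁻¹ = th v :=
  inv_eq_of_mul_eq_one_left (h.sq v)

theorem comm (h : Sit th O K0) (u v : V) : th u * th v = th v * th u := by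
  rw [← h.add, ← h.add, add_comm]

theorem eq_one_iff (h : Sit th O K0) (v : V) : th v = 1 ↔ v = 0 := by
  rw [← h.zero]; exact h.inj.eq_iff

/-- the subgroup `A` -/
def A (h : Sit th O K0) : Subgroup K where
  carrier := Set.range th
  mul_mem' := by rintro _ _ ⟨u, rfl⟩ ⟨v, rfl⟩; exact ⟨u + v, h.add u v⟩
  one_mem' := ⟨0, h.zero⟩
  inv_mem' := by rintro _ ⟨u, rfl⟩; exact ⟨u, (h.inv u).symm⟩

theorem mem_A (h : Sit th O K0) {x : K} : x ∈ h.A ↔ ∃ v, th v = x := Iff.rfl

theorem th_mem (h : Sit th O K0) (v : V) : th v ∈ h.A := ⟨v, rfl⟩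

theorem card_A (h : Sit th O K0) : Nat.card h.A = 64 := by
  have : Nat.card h.A = Nat.card V := (Nat.card_congr (Equiv.ofInjective th h.inj)).symm
  rw [this]; simp [V]

theorem mem_normalizer (h : Sit th O K0) {n : K} :
    n ∈ Subgroup.normalizer (h.A : Set K) ↔ (∀ v, ∃ u, n * th v * n⁻¹ = th u) := by
  rw [Subgroup.mem_normalizer_iff]
  constructor
  · intro hn v
    obtain ⟨u, hu⟩ := (hn (th v)).1 ⟨v, rfl⟩
    exact ⟨u, hu.symm⟩
  · intro hn x
    constructor
    · rintro ⟨v, rfl⟩
      obtain ⟨u, hu⟩ := hn v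
      exact ⟨u, hu.symm⟩
    · rintro ⟨w, hw⟩
      choose f hf using hn
      have hinj : Function.Injective f := fun a b hab => by
        apply h.inj
        have := (hf a).trans ((congrArg th hab).trans (hf b).symm)
        exact mul_left_cancel (mul_right_cancel this)
      obtain ⟨v, hv⟩ := (Finite.injective_iff_surjective.1 hinj) w
      refine ⟨v, ?_⟩
      have := (hf v).trans ((congrArg th hv).trans hw)
      exact mul_left_cancel (mul_right_cancel this)

/-- an element normalising `A` acts as an isometry -/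
theorem exists_isom_of_mem (h : Sit th O K0) {n : K} (hn : n ∈ Subgroup.normalizer (h.A : Set K)) :
    ∃ g : V ≃+ V, Isom g ∧ ∀ v, n * th v * n⁻¹ = th (g v) := by
  have hn' := h.mem_normalizer.1 hn
  choose f hf using hn'
  have hinj : Function.Injective f := fun a b hab => by
    apply h.inj
    have := (hf a).trans ((congrArg th hab).trans (hf b).symm)
    exact mul_left_cancel (mul_right_cancel this)
  have hbij : Function.Bijective f := ⟨hinj, Finite.injective_iff_surjective.1 hinj⟩
  refine ⟨{ Equiv.ofBijective f hbij with map_add' := ?_ }, ?_, hf⟩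
  · intro u v
    change f (u + v) = f u + f v
    apply h.inj
    rw [h.add, ← hf, ← hf, ← hf, h.add]; group
  · intro u v
    exact h.act n (h.mem_normalizer.1 hn) u v (f u) (f v) (hf u) (hf v)

theorem K0_le (h : Sit th O K0) : K0 ≤ Subgroup.normalizer (h.A : Set K) := fun k hk =>
  h.mem_normalizer.2 (h.k0 k hk)

theorem mem_of_sq (h : Sit th O K0) {x : K} (hx : ∀ v, x * th v = th v * x) {n : ℕ} (h2 : x ^ (2 ^ n) = 1) :
    x ∈ h.A := by
  obtain ⟨o, ho, v, rfl⟩ := h.cent x hx
  have h1 : (o * th v) ^ (2 ^ n) = o ^ (2 ^ n) * th v ^ (2 ^ n) := (show Commute o (th v) from h.oc o ho v).mul_pow _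
  have h3 : o ^ (2 ^ (n + 1)) = 1 := by
    have h4 : (o * th v) ^ (2 ^ (n + 1)) = 1 := by rw [pow_succ, pow_mul, h2, one_pow]
    rw [(show Commute o (th v) from h.oc o ho v).mul_pow, pow_succ 2 n, mul_comm (2 ^ n) 2, pow_mul (th v), pow_two,
      h.sq, one_pow, mul_one, mul_comm 2 (2 ^ n), ← pow_succ] at h4
    exact h4
  have h5 : o = 1 := by
    have h6 : orderOf (⟨o, ho⟩ : O) ∣ 2 ^ (n + 1) := orderOf_dvd_of_pow_eq_one (Subtype.ext h3)
    have h7 : orderOf (⟨o, ho⟩ : O) ∣ Nat.card O := orderOf_dvd_natCard _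
    have h8 : orderOf (⟨o, ho⟩ : O) = 1 := by
      have hc : Nat.Coprime (2 ^ (n + 1)) (Nat.card O) := Nat.Coprime.pow_left _ (by
        rw [Nat.coprime_two_left]; exact h.odd)
      exact Nat.eq_one_of_dvd_coprimes hc h6 h7
    exact congrArg Subtype.val (orderOf_eq_one_iff.1 h8)
  rw [h5, one_mul]
  exact h.th_mem v

/-- an involution commuting with `A` lies in `A` -/
theorem mem_of_mul_self (h : Sit th O K0) {x : K} (hx : ∀ v, x * th v = th v * x) (h2 : x * x = 1) : x ∈ h.A :=
  h.mem_of_sq hx (n := 1) (by rw [pow_one, pow_two, h2])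

/-- transvections are realised in `K0` -/
theorem exists_tv (h : Sit th O K0) (a : V) : ∃ k ∈ K0, ∀ v, k * th v * k⁻¹ = th (tv a v) :=
  h.full _ (isom_tv a)

/-- all nonzero elements of `A` are conjugate under `K0` -/
theorem exists_conj (h : Sit th O K0) {u v : V} (hu : u ≠ 0) (hv : v ≠ 0) : ∃ k ∈ K0, k * th u * k⁻¹ = th v := by
  obtain ⟨g, hg, rfl⟩ := exists_isom hu hv
  obtain ⟨k, hk, hk'⟩ := h.full g hg
  exact ⟨k, hk, hk' u⟩

end Sit

end Cfsg.Agent.H336.SpSix
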