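import Cfsg.Agent.H336.SpSix.Faith
import Cfsg.Prelude.Def_CaseTheorems
import Cfsg.Prelude.Def_TwoFusion
import Cfsg.Prelude.Def_Transfer
import Cfsg.Agent.Lib.Cores

/-!
# The hypotheses of S3405 give `Sit`
-/

set_option autoImplicit false

namespace Cfsg.Agent.H336.SpSix

open Subgroup Cfsg Cfsg.Agent.SporRec.TwoSp6

theorem exists_sit {G : Type*} [Group G] [Finite G] {F : Type*} [Field F] [Fintype F] (hF : Fintype.card F = 2)
    (A : Subgroup G) (hA : Cfsg.IsElementaryAbelian 2 A) (hA64 : Nat.card ↥A = 64)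
    (hC : Cfsg.IsInternalDirectProduct ((Cfsg.oddCore ↥(normalizer (A : Set G))).map (normalizer (A : Set G)).subtype) A
      (centralizer (A : Set G)))
    [hn : ((centralizer (A : Set G)).subgroupOf (normalizer (A : Set G))).Normal]
    (e : (↥(normalizer (A : Set G)) ⧸ (centralizer (A : Set G)).subgroupOf (normalizer (A : Set G))) ≃* Cfsg.PSp 3 F)
    (hsplit : ∃ K : Subgroup G, K ≤ normalizer (A : Set G) ∧
      K ⊔ ((Cfsg.oddCore ↥(normalizer (A : Set G))).map (normalizer (A : Set G)).subtype ⊔ A) = normalizer (A : Set G) ∧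
      K ⊓ ((Cfsg.oddCore ↥(normalizer (A : Set G))).map (normalizer (A : Set G)).subtype ⊔ A) =
        (Cfsg.oddCore ↥(normalizer (A : Set G))).map (normalizer (A : Set G)).subtype) :
    ∃ (th : V → G) (O K0 : Subgroup G) (h : Sit th O K0), h.A = A := by
  classical
  obtain ⟨e'⟩ := Cfsg.Agent.StandardComponent.SpTwoAut.exists_equiv hF
  set N := normalizer (A : Set G) with hN
  set C := centralizer (A : Set G) with hCdef
  set O := (Cfsg.oddCore ↥N).map N.subtype with hOdef
  have hAcomm : ∀ a ∈ A, ∀ b ∈ A, a * b = b * a := fun a ha b hb =>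
    congrArg Subtype.val (hA.1.is_comm.comm ⟨a, ha⟩ ⟨b, hb⟩)
  have hAsq : ∀ a ∈ A, a * a = 1 := fun a ha => by rw [← pow_two]; exact hA.2 a ha
  have hAN : A ≤ N := le_normalizer
  -- the homomorphism onto `S`
  let π : N →* S := (e.trans e').toMonoidHom.comp (QuotientGroup.mk' (C.subgroupOf N))
  have hπs : Function.Surjective π := (e.trans e').surjective.comp (QuotientGroup.mk'_surjective _)
  have hπk : ∀ n : N, π n = 1 ↔ ∀ a ∈ A, (n : G) * a = a * n := by
    intro n
    have h1 : π n = 1 ↔ (QuotientGroup.mk' (C.subgroupOf N)) n = 1 := by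
      change (e.trans e') _ = 1 ↔ _
      rw [MulEquiv.map_eq_one_iff]
    rw [h1, ← MonoidHom.mem_ker, QuotientGroup.ker_mk', mem_subgroupOf, mem_centralizer_iff]
    exact ⟨fun h a ha => (h a ha).symm, fun h a ha => (h a ha).symm⟩
  -- the action on `Additive A`
  let _ : CommGroup A := { (inferInstance : Group A) with mul_comm := fun a b => Subtype.ext (hAcomm a a.2 b b.2) }
  have hconj : ∀ (n : N) (a : A), (n : G) * a * (n : G)⁻¹ ∈ A := fun n a =>
    (mem_normalizer_iff.1 n.2 a).1 a.2
  let act1 : N → (Additive A →+ Additive A) := fun n =>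
    { toFun := fun a => Additive.ofMul ⟨(n : G) * (Additive.toMul a : A) * (n : G)⁻¹, hconj n _⟩
      map_zero' := by
        apply Additive.toMul.injective
        apply Subtype.ext
        simp
      map_add' := fun a b => by
        apply Additive.toMul.injective
        apply Subtype.ext
        simp [mul_assoc] }
  have act1_apply : ∀ n a, ((Additive.toMul (act1 n a) : A) : G) = (n : G) * (Additive.toMul a : A) * (n : G)⁻¹ :=
    fun _ _ => rfl
  let ρN : N →* AddMonoid.End (Additive A) :=
    { toFun := act1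
      map_one' := by
        apply AddMonoidHom.ext
        intro a
        apply Additive.toMul.injective
        apply Subtype.ext
        change ((1 : N) : G) * (Additive.toMul a : A) * ((1 : N) : G)⁻¹ = (Additive.toMul a : A)
        simp
      map_mul' := fun m n => by
        apply AddMonoidHom.ext
        intro a
        apply Additive.toMul.injective
        apply Subtype.ext
        change ((m * n : N) : G) * (Additive.toMul a : A) * ((m * n : N) : G)⁻¹ =
          (m : G) * ((n : G) * (Additive.toMul a : A) * (n : G)⁻¹) * (m : G)⁻¹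
        push_cast
        group }
  have hker : ∀ n n' : N, π n = π n' → ρN n = ρN n' := by
    intro n n' hn'
    have h1 : π (n'⁻¹ * n) = 1 := by rw [map_mul, map_inv, hn', inv_mul_cancel]
    apply AddMonoidHom.ext
    intro a
    apply Additive.toMul.injective
    apply Subtype.ext
    change (n : G) * (Additive.toMul a : A) * (n : G)⁻¹ = (n' : G) * (Additive.toMul a : A) * (n' : G)⁻¹
    have h2 := (hπk _).1 h1 _ (Additive.toMul a : A).2
    push_cast at h2
    calc (n : G) * (Additive.toMul a : A) * (n : G)⁻¹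
        = n' * ((n' : G)⁻¹ * n * (Additive.toMul a : A)) * (n : G)⁻¹ := by group
      _ = _ := by rw [h2]; group
  let ρ : S →* AddMonoid.End (Additive A) :=
    { toFun := fun s => ρN (Function.surjInv hπs s)
      map_one' := by
        rw [← map_one ρN]
        exact hker _ _ (by rw [Function.surjInv_eq hπs, map_one])
      map_mul' := fun s t => by
        rw [← map_mul ρN]
        exact hker _ _ (by rw [Function.surjInv_eq hπs, map_mul, Function.surjInv_eq hπs, Function.surjInv_eq hπs]) }
  have hρ : ∀ n : N, ρ (π n) = ρN n := fun n => hker _ _ (Function.surjInv_eq hπs _)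
  have hρi : Function.Injective ρ := by
    rw [injective_iff_map_eq_one]
    intro s hs
    obtain ⟨n, rfl⟩ := hπs s
    rw [hρ] at hs
    rw [hπk]
    intro a ha
    have h1 := congrArg (fun f : AddMonoid.End (Additive A) => ((Additive.toMul (f (Additive.ofMul ⟨a, ha⟩)) : A) : G)) hs
    have h2 : (n : G) * a * (n : G)⁻¹ = a := h1
    rwa [mul_inv_eq_iff_eq_mul] at h2
  have hW : ∀ w : Additive A, w + w = 0 := by
    intro w
    apply Additive.toMul.injective
    apply Subtype.ext
    exact hAsq _ (Additive.toMul w : A).2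
  have hcW : Nat.card (Additive A) = 64 := hA64
  obtain ⟨c, hcadd, hcinj, hceq⟩ := Faith.natural hW hcW ρ hρi
  let th : V → G := fun v => ((Additive.toMul (c v) : A) : G)
  have hth : ∀ v, th v ∈ A := fun v => (Additive.toMul (c v) : A).2
  have hsurj : ∀ a ∈ A, ∃ v, th v = a := by
    have h1 : Function.Bijective c := by
      have := Fintype.ofFinite (Additive A)
      rw [Fintype.bijective_iff_injective_and_card]
      refine ⟨hcinj, ?_⟩
      rw [← Nat.card_eq_fintype_card, ← Nat.card_eq_fintype_card, hcW]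
      simp [V]
    intro a ha
    obtain ⟨v, hv⟩ := h1.2 (Additive.ofMul ⟨a, ha⟩)
    exact ⟨v, by change ((Additive.toMul (c v) : A) : G) = a; rw [hv]; rfl⟩
  have hnorm : ∀ n : G, (∀ v, ∃ u, n * th v * n⁻¹ = th u) → n ∈ N := by
    intro n h
    rw [hN, mem_normalizer_iff]
    have h1 : ∀ a ∈ A, n * a * n⁻¹ ∈ A := by
      intro a ha
      obtain ⟨v, rfl⟩ := hsurj a ha
      obtain ⟨u, hu⟩ := h v
      rw [hu]
      exact hth u
    intro a
    refine ⟨h1 a, fun ha => ?_⟩
    let f : A → A := fun x => ⟨n * x * n⁻¹, h1 x x.2⟩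
    have hf : Function.Injective f := fun x y hxy => by
      have := congrArg Subtype.val hxy
      exact Subtype.ext (mul_left_cancel (mul_right_cancel this))
    obtain ⟨y, hy⟩ := Finite.injective_iff_surjective.1 hf ⟨_, ha⟩
    have h2 : n * (y : G) * n⁻¹ = n * a * n⁻¹ := congrArg Subtype.val hy
    rw [← mul_left_cancel (mul_right_cancel h2)]
    exact y.2
  have hact : ∀ (n : N) v, (n : G) * th v * (n : G)⁻¹ = th (Sp.act (π n) v) := by
    intro n v
    have h1 := hceq (π n) v
    rw [hρ] at h1
    exact congrArg (fun w : Additive A => ((Additive.toMul w : A) : G)) h1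
  have hsupC : O ⊔ A = C := hC.2.2.2.2
  obtain ⟨K, hKN, hKsup, hKinf⟩ := hsplit
  have hOK : O ≤ K := by rw [← hKinf]; exact inf_le_left
  have hOC : O ≤ C := hC.1
  have hAC : A ≤ C := hC.2.1
  have hOn : ∀ x ∈ O, ∀ n ∈ N, n * x * n⁻¹ ∈ O := by
    rintro _ ⟨y, hy, rfl⟩ n hn'
    exact ⟨⟨n, hn'⟩ * y * ⟨n, hn'⟩⁻¹, (inferInstance : (oddCore N).Normal).conj_mem y hy _, rfl⟩
  have hcent : ∀ x : G, (∀ v, x * th v = th v * x) → x ∈ C := by
    intro x hx
    rw [hCdef, mem_centralizer_iff]
    intro a ha
    obtain ⟨v, rfl⟩ := hsurj a ha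
    exact (hx v).symm
  have hKmap : ∀ s : S, ∃ k, ∃ hk : k ∈ K, π ⟨k, hKN hk⟩ = s := by
    have hsup : N = K ⊔ C := by rw [← hKsup, hsupC]
    -- the elements of `N` whose image is in the image of `K` form a subgroup containing `K` and `C`
    let M : Subgroup G := ((((K.subgroupOf N).map π).comap π).map N.subtype)
    have hKM : K ≤ M := by
      intro k hk
      exact ⟨⟨k, hKN hk⟩, ⟨⟨k, hKN hk⟩, mem_subgroupOf.2 hk, rfl⟩, rfl⟩
    have hCN : C ≤ N := by rw [hsup]; exact le_sup_right
    have hCM : C ≤ M := by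
      intro x hx
      refine ⟨⟨x, hCN hx⟩, ?_, rfl⟩
      have h1 : π ⟨x, hCN hx⟩ = 1 := (hπk _).2 fun a ha => (mem_centralizer_iff.1 hx a ha).symm
      change π ⟨x, hCN hx⟩ ∈ (K.subgroupOf N).map π
      rw [h1]
      exact one_mem _
    have hNM : N ≤ M := by
      have h1 : K ⊔ C ≤ M := sup_le hKM hCM
      rwa [← hsup] at h1
    intro s
    obtain ⟨n, rfl⟩ := hπs s
    obtain ⟨m, hm, hmn⟩ := hNM n.2
    have : m = n := Subtype.ext hmn
    subst this
    obtain ⟨k, hk, hk'⟩ := hm
    exact ⟨k, mem_subgroupOf.1 hk, hk'⟩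
  have hSit : Sit th O K :=
    { add := fun u v => congrArg (fun w : Additive A => ((Additive.toMul w : A) : G)) (hcadd u v)
      inj := fun u v huv => hcinj (Additive.toMul.injective (Subtype.ext huv))
      odd := by
        rw [hOdef, ← Nat.card_congr ((oddCore N).equivMapOfInjective _ N.subtype_injective).toEquiv]
        have := Cfsg.Agent.Lib.Cores.pPrimeCore_coprime (G := N) 2
        exact Nat.coprime_two_right.1 this
      oc := fun x hx v => (mem_centralizer_iff.1 (hOC hx) _ (hth v)).symm
      oN := fun x hx n hn' => hOn x hx n (hnorm n hn')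
      cent := fun x hx => by
        have h1 := hcent x hx
        rw [← hsupC] at h1
        have h2 : ∃ o ∈ O, ∃ a ∈ A, x = o * a := by
          let T : Subgroup G :=
            { carrier := {x | ∃ o ∈ O, ∃ a ∈ A, x = o * a}
              one_mem' := ⟨1, O.one_mem, 1, A.one_mem, (mul_one _).symm⟩
              mul_mem' := by
                rintro _ _ ⟨o, ho, a, ha, rfl⟩ ⟨o', ho', a', ha', rfl⟩
                refine ⟨o * o', O.mul_mem ho ho', a * a', A.mul_mem ha ha', ?_⟩
                rw [mul_assoc, ← mul_assoc a, ← hC.2.2.1 o' ho' a ha, mul_assoc, mul_assoc]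
              inv_mem' := by
                rintro _ ⟨o, ho, a, ha, rfl⟩
                refine ⟨o⁻¹, O.inv_mem ho, a⁻¹, A.inv_mem ha, ?_⟩
                rw [mul_inv_rev]
                exact (hC.2.2.1 _ (O.inv_mem ho) _ (A.inv_mem ha)).symm }
          have hT : O ⊔ A ≤ T := sup_le (fun o ho => ⟨o, ho, 1, A.one_mem, (mul_one _).symm⟩)
            (fun a ha => ⟨1, O.one_mem, a, ha, (one_mul _).symm⟩)
          exact hT h1
        obtain ⟨o, ho, a, ha, rfl⟩ := h2
        obtain ⟨v, rfl⟩ := hsurj a ha
        exact ⟨o, ho, v, rfl⟩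
      act := fun n hn' u v u' v' h1 h2 => by
        have h3 := hact ⟨n, hnorm n hn'⟩ u
        have h4 := hact ⟨n, hnorm n hn'⟩ v
        have hinj : Function.Injective th := fun u v huv => hcinj (Additive.toMul.injective (Subtype.ext huv))
        have e1 := hinj (h1.symm.trans h3)
        have e2 := hinj (h2.symm.trans h4)
        rw [e1, e2, ← om_eq, Sp.act_om, om_eq]
      k0 := fun k hk v => ⟨_, hact ⟨k, hKN hk⟩ v⟩
      le := hOK
      k0c := fun k hk hc => by
        have h1 := hcent k hc
        rw [← hsupC] at h1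
        have h2 : k ∈ K ⊓ (O ⊔ A) := ⟨hk, h1⟩
        rwa [hKinf] at h2
      full := fun g hg => by
        obtain ⟨s, hs⟩ := exists_act_of_isom hg
        obtain ⟨k, hk, hk'⟩ := hKmap s
        refine ⟨k, hk, fun v => ?_⟩
        have := hact ⟨k, hKN hk⟩ v
        rw [hk', hs] at this
        exact this }
  refine ⟨th, O, K, hSit, ?_⟩
  ext x
  exact ⟨fun ⟨v, hv⟩ => hv ▸ hth v, fun hx => hsurj x hx⟩

end Cfsg.Agent.H336.SpSix
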