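import Cfsg.Agent.H336.SpSix.ClassRow
import Cfsg.Agent.H336.SpSix.Main
import Cfsg.Agent.H336.SpSix.FromE
import Cfsg.Agent.H669.Sp6.Alt
import Cfsg.Agent.H669.Sp6.ExcA
import Cfsg.Agent.H318.SpSix.Row
import Cfsg.Agent.H351.SpSix.RowE6
import Cfsg.Agent.H351.SpSix.RowE8
import Cfsg.Agent.H265.SpSix.Row
import Cfsg.Agent.H848.SpSixRows
import Cfsg.Agent.H834.SpEnd
import Cfsg.Prelude.Def_Classification2
import Cfsg.Agent.BiChar.SmallCard

/-!
# Assembly of S3405
-/

set_option autoImplicit false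

namespace Cfsg.Agent.H336.SpSix.All

open Subgroup Cfsg Cfsg.Agent.H336.SpSix

universe u

/-- the row `E7` -/
def RowE7 : Prop := ∀ (K : Type u) [Group K] [Finite K] [IsSimpleGroup K] (F : Type) [Field F] [Fintype F],
  (2 : F) ≠ 0 → ∀ (_ : K ≃* Lie.chevE7.group F) (th : V → K) (O K0 : Subgroup K), Sit th O K0 → False

theorem fi22 (hE7 : RowE7.{u}) {K : Type u} [Group K] [Finite K] [hs : IsSimpleGroup K] (hna : ¬ IsMulCommutative K)
    (hKn : IsKnownSimple' K) {th : V → K} {O K0 : Subgroup K} (h : Sit th O K0) : Spor.IsoFi22 K := by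
  have hex : ∀ {F : Type} [Field F] [Finite F], (2 : F) ≠ 0 → Odd (Nat.card F) := by
    intro F _ _ h2
    by_contra hodd
    rw [Nat.not_odd_iff_even, even_iff_two_dvd] at hodd
    apply h2
    have := Fintype.ofFinite F
    have h3 : ringChar F = 2 := by
      obtain ⟨n, hp, hn⟩ := FiniteField.card F (ringChar F)
      rw [Nat.card_eq_fintype_card, hn] at hodd
      exact ((Nat.prime_dvd_prime_iff_eq Nat.prime_two hp).1 (Nat.prime_two.dvd_of_dvd_pow hodd)).symm
    have h4 : ((2 : ℕ) : F) = 0 := by rw [← h3]; exact CharP.cast_eq_zero F _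
    exact_mod_cast h4
  rcases hKn with hK | hK | hK | hK | hK | hK | hK | hK | hK | hK
  · -- prime order
    exfalso
    apply hna
    have : Fact (Nat.card K).Prime := ⟨hK⟩
    have hc : IsCyclic K := isCyclic_of_prime_card rfl
    exact ⟨⟨fun a b => hc.commGroup.mul_comm a b⟩⟩
  · obtain ⟨n, -, ⟨e⟩⟩ := hK
    exact (H669.Sp6.row_alt (h.equiv e)).elim
  · exact (H318.SpSix.Row.row_char2 (Or.inl (ClassRow.charTwo_of_classical h (Or.inl hK))) h).elim
  · exact (H318.SpSix.Row.row_char2 (Or.inl (ClassRow.charTwo_of_classical h (Or.inr (Or.inl hK)))) h).elim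
  · exact (H318.SpSix.Row.row_char2 (Or.inl (ClassRow.charTwo_of_classical h (Or.inr (Or.inr (Or.inl hK))))) h).elim
  · exact (H318.SpSix.Row.row_char2 (Or.inl (ClassRow.charTwo_of_classical h (Or.inr (Or.inr (Or.inr (Or.inl hK)))))) h).elim
  · exact (H318.SpSix.Row.row_char2 (Or.inl (ClassRow.charTwo_of_classical h
      (Or.inr (Or.inr (Or.inr (Or.inr (Or.inl hK))))))) h).elim
  · exact (H318.SpSix.Row.row_char2 (Or.inl (ClassRow.charTwo_of_classical h
      (Or.inr (Or.inr (Or.inr (Or.inr (Or.inr hK))))))) h).elim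
  · by_cases h2 : IsLieTypeChar 2 K
    · exact (H318.SpSix.Row.row_char2 (Or.inl h2) h).elim
    have hchev : ∀ {F : Type} [Field F] [Fintype F], ((2 : F) = 0 → IsExceptionalChevChar 2 K) → (2 : F) ≠ 0 := by
      intro F _ _ h3 h4
      apply h2
      exact Or.inr (Or.inr (Or.inr (Or.inr (Or.inr (Or.inr (Or.inl (h3 h4)))))))
    have htw : ∀ {F : Type} [Field F] [Fintype F], ((2 : F) = 0 → IsTwistedE6D4Char 2 K) → (2 : F) ≠ 0 := by
      intro F _ _ h3 h4
      apply h2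
      exact Or.inr (Or.inr (Or.inr (Or.inr (Or.inr (Or.inr (Or.inr (Or.inl (h3 h4))))))))
    rcases hK with hK | hK | hK | hK | hK | hK | hK | hK | hK | hK | hK
    · exact (H669.Sp6.row_excA (Or.inl hK) h2 h).elim
    · exact (H669.Sp6.row_excA (Or.inr (Or.inl hK)) h2 h).elim
    · obtain ⟨F, _, _, ⟨e⟩⟩ := hK
      have h3 : (2 : F) ≠ 0 := hchev fun h0 =>
        ⟨F, inferInstance, inferInstance, CharTwo.of_one_ne_zero_of_two_eq_zero one_ne_zero h0,
          Or.inr (Or.inr (Or.inl ⟨e⟩))⟩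
      have ho := hex h3
      rw [Nat.card_eq_fintype_card] at ho
      exact (H351.SpSix.RowE6.row_E6 h ho e).elim
    · obtain ⟨F, _, _, ⟨e⟩⟩ := hK
      have h3 : (2 : F) ≠ 0 := hchev fun h0 =>
        ⟨F, inferInstance, inferInstance, CharTwo.of_one_ne_zero_of_two_eq_zero one_ne_zero h0,
          Or.inr (Or.inr (Or.inr (Or.inl ⟨e⟩)))⟩
      exact (hE7 K F h3 e th O K0 h).elim
    · obtain ⟨F, _, _, ⟨e⟩⟩ := hK
      have h3 : (2 : F) ≠ 0 := hchev fun h0 =>
        ⟨F, inferInstance, inferInstance, CharTwo.of_one_ne_zero_of_two_eq_zero one_ne_zero h0,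
          Or.inr (Or.inr (Or.inr (Or.inr ⟨e⟩)))⟩
      have ho := hex h3
      rw [Nat.card_eq_fintype_card] at ho
      exact (H351.SpSix.RowE8.row_E8 h ho e).elim
    · obtain ⟨F, _, _, q, hq, hF, ⟨e⟩⟩ := hK
      have h3 : (2 : F) ≠ 0 := htw fun h0 =>
        ⟨F, inferInstance, inferInstance, CharTwo.of_one_ne_zero_of_two_eq_zero one_ne_zero h0, q, hq,
          Or.inl ⟨hF, ⟨e⟩⟩⟩
      have ho := hex h3
      rw [Nat.card_eq_fintype_card] at ho
      exact (H351.SpSix.RowE6.row_2E6 h ho e).elim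
    · exact (H669.Sp6.row_excA (Or.inr (Or.inr (Or.inl hK))) h2 h).elim
    · exact absurd (Or.inr (Or.inr (Or.inr (Or.inr (Or.inr (Or.inr (Or.inr (Or.inr (Or.inl ⟨rfl, hK⟩))))))))) h2
    · exact (H669.Sp6.row_excA (Or.inr (Or.inr (Or.inr hK))) h2 h).elim
    · exact absurd (Or.inr (Or.inr (Or.inr (Or.inr (Or.inr (Or.inr (Or.inr (Or.inr (Or.inr (Or.inl ⟨rfl, hK⟩)))))))))) h2
    · have hc := BiChar.Small.card_of_isoTits hK
      have h3 := h.card_dvd
      rw [hc] at h3
      exact absurd h3 (by norm_num)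
  · rcases H265.SpSix.row_sporA hK h with h1 | h1 | h1 | h1
    · exact h1
    · exact (H848.SpSixRows.row_fi24 h1 h).elim
    · exact (H848.SpSixRows.row_b h1 h).elim
    · exact (H848.SpSixRows.row_m h1 h).elim

theorem main (hcl : ∀ (K : Type u) [Group K] [Finite K] [IsSimpleGroup K], IsKnownSimple' K) (hE7 : RowE7.{u}) {G : Type u} [Group G] [Finite G] (hO : oddCore G = ⊥) {th : V → G}
    {O K0 : Subgroup G} (h : Sit th O K0) : Spor.IsoFi22 G ∨ h.A.Normal := by
  rcases h.reduce hO with h1 | ⟨K, hKn, hKs, hKc, hC, hK, hS⟩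
  · exact Or.inr h1
  · left
    have h2 := fi22 hE7 hKc (hcl K) hS
    have h3 := H834.SpEnd.eq_top h K hC hK h2
    subst h3
    obtain ⟨e⟩ := h2
    exact ⟨Subgroup.topEquiv.symm.trans e⟩

end Cfsg.Agent.H336.SpSix.All
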