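import Cfsg.Agent.H336.SpSix.Basic

/-!
# Lifts of `A` to a central extension commute

`π : L → K` surjective with central kernel, `Sit th O K0` in `K`: the elements of `L` over `A` commute
(the splitting `K0` is used: `2^{1+6}.Sp_6(2)` does not split).
-/

set_option autoImplicit false

namespace Cfsg.Agent.H336.SpSix

open Subgroup Cfsg.Agent.SporRec.TwoSp6

theorem exists_perp {a : V} (ha : a ≠ 0) : ∃ c, om a c = 0 ∧ c ≠ 0 ∧ c ≠ a := by
  obtain ⟨b, hb⟩ := exists_om ha
  have hb0 : b ≠ 0 := by
    rintro rfl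
    rw [om_zero_right] at hb; exact absurd hb (by decide)
  have hab : a ≠ b := by
    rintro rfl
    rw [om_self] at hb; exact absurd hb (by decide)
  -- four vectors `0, a, b, a+b` are not everything in the kernel: use a third vector
  have key : ∀ a b : V, om a b = 1 → ∃ c, c ≠ 0 ∧ om a c = 0 ∧ om b c = 0 := by
    intro a b hab
    -- the map `c ↦ (om a c, om b c)` has a nontrivial kernel
    by_contra hcon
    push Not at hcon
    let f : V → ZMod 2 × ZMod 2 := fun c => (om a c, om b c)
    have hf : Function.Injective f := by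
      intro x y hxy
      have h1 : om a (x + y) = 0 := by
        rw [om_add_right, show om a x = om a y from congrArg Prod.fst hxy, z2_add_self]
      have h2 : om b (x + y) = 0 := by
        rw [om_add_right, show om b x = om b y from congrArg Prod.snd hxy, z2_add_self]
      by_contra hne
      exact hcon (x + y) (fun h => hne ((add_eq_zero_iff _ _).1 h)) h1 h2
    have h3 := Fintype.card_le_of_injective f hf
    have h4 : Fintype.card V = 64 := by simp [V]
    have h5 : Fintype.card (ZMod 2 × ZMod 2) = 4 := by simp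
    rw [h4, h5] at h3
    exact absurd h3 (by decide)
  obtain ⟨c, hc0, hac, hbc⟩ := key a b hb
  refine ⟨c, hac, hc0, ?_⟩
  rintro rfl
  rw [om_comm, hb] at hbc
  exact absurd hbc (by decide)

section

variable {L : Type*} [Group L]

/-- the commutator -/
def cm (g h : L) : L := g * h * g⁻¹ * h⁻¹

theorem cm_mul_right {g h h' : L} (hc : ∀ x, cm g h' * x = x * cm g h') : cm g (h * h') = cm g h * cm g h' := by
  have h1 := hc h
  unfold cm at *
  calc g * (h * h') * g⁻¹ * (h * h')⁻¹ = g * h * g⁻¹ * (g * h' * g⁻¹ * h'⁻¹) * h⁻¹ := by group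
    _ = g * h * g⁻¹ * (g * h' * g⁻¹ * h'⁻¹ * h⁻¹) := by group
    _ = g * h * g⁻¹ * (h⁻¹ * (g * h' * g⁻¹ * h'⁻¹)) := by rw [hc h⁻¹]
    _ = _ := by group

theorem cm_mul_central {g h z : L} (hz : ∀ x, z * x = x * z) : cm g (z * h) = cm g h := by
  unfold cm
  have h1 := hz (h * g⁻¹ * h⁻¹)
  calc g * (z * h) * g⁻¹ * (z * h)⁻¹ = g * (z * (h * g⁻¹ * h⁻¹)) * z⁻¹ := by group
    _ = g * ((h * g⁻¹ * h⁻¹) * z) * z⁻¹ := by rw [h1]
    _ = _ := by group

theorem cm_eq_one {g h : L} : cm g h = 1 ↔ g * h = h * g := by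
  unfold cm
  rw [mul_inv_eq_one, mul_inv_eq_iff_eq_mul]

theorem cm_spec (g h : L) : g * h = cm g h * (h * g) := by unfold cm; group

theorem cm_conj {g h : L} : g * h * g⁻¹ = cm g h * h := by unfold cm; group

end

namespace Sit

variable {K : Type*} [Group K] {th : V → K} {O K0 : Subgroup K} {L : Type*} [Group L]

/-- **lifts of `A` to a central extension commute** -/
theorem lifts_comm [Finite K] (h : Sit th O K0) (π : L →* K) (hs : Function.Surjective π)
    (hz : ∀ z, π z = 1 → ∀ g, z * g = g * z) {g g' : L} {u v : V} (hg : π g = th u) (hg' : π g' = th v) :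
    g * g' = g' * g := by
  choose x hx using fun v => hs (th v)
  -- lifts differ by central elements
  have hdiff : ∀ (g : L) (v : V), π g = th v → ∃ z, π z = 1 ∧ g = z * x v := fun g v hg =>
    ⟨g * (x v)⁻¹, by rw [map_mul, map_inv, hg, hx, mul_inv_cancel], by group⟩
  have hpair : ∀ g g' : L, ∀ u v : V, π g = th u → π g' = th v → π (cm g g') = 1 := by
    intro g g' u v hg hg'
    unfold cm
    rw [map_mul, map_mul, map_mul, map_inv, map_inv, hg, hg', h.comm, mul_inv_cancel_right, mul_inv_cancel]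
  -- it suffices to treat the chosen lifts
  suffices hall : ∀ u v, x u * x v = x v * x u by
    obtain ⟨z, hz1, rfl⟩ := hdiff g u hg
    obtain ⟨z', hz1', rfl⟩ := hdiff g' v hg'
    have e1 := hz z hz1
    have e2 := hz z' hz1'
    calc z * x u * (z' * x v) = z * ((x u * z') * x v) := by group
      _ = z * ((z' * x u) * x v) := by rw [e2 (x u)]
      _ = (z * z') * (x u * x v) := by group
      _ = (z' * z) * (x v * x u) := by rw [e1 z', hall]
      _ = z' * (z * x v) * x u := by group
      _ = z' * (x v * z) * x u := by rw [e1 (x v)]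
      _ = _ := by group
  -- products
  have hxadd : ∀ u v, ∃ z, π z = 1 ∧ x (u + v) = z * (x u * x v) := by
    intro u v
    obtain ⟨z, hz1, hz2⟩ := hdiff (x u * x v) (u + v) (by rw [map_mul, hx, hx, h.add])
    refine ⟨z⁻¹, by rw [map_inv, hz1, inv_one], by rw [hz2]; group⟩
  have hx0 : ∀ g, x 0 * g = g * x 0 := hz _ (by rw [hx, h.zero])
  have hxsq : ∀ v g, x v * x v * g = g * (x v * x v) := fun v => hz _ (by rw [map_mul, hx, h.sq])
  -- (1) orthogonal vectors
  have hA1 : ∀ u c, om u c = 0 → x u * x c = x c * x u := by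
    intro u c huc
    by_cases hc0 : c = 0
    · rw [hc0, hx0]
    obtain ⟨v, hv⟩ := exists_om hc0
    obtain ⟨k, -, hk⟩ := h.exists_tv c
    obtain ⟨T, rfl⟩ := hs k
    have e1 : π (T * x u * T⁻¹) = th u := by
      rw [map_mul, map_mul, map_inv, hx, hk, tv_of_zero (by rw [om_comm]; exact huc)]
    have e2 : π (T * x v * T⁻¹) = th (v + c) := by
      rw [map_mul, map_mul, map_inv, hx, hk, tv_of_one hv]
    obtain ⟨z1, hz1, hz1'⟩ := hdiff _ _ e1
    obtain ⟨z2, hz2, hz2'⟩ := hdiff _ _ e2
    obtain ⟨z3, hz3, hz3'⟩ := hxadd v c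
    have hcen : ∀ u v : V, ∀ y, cm (x u) (x v) * y = y * cm (x u) (x v) := fun u v =>
      hz _ (hpair _ _ u v (hx u) (hx v))
    have e3 : cm (x u) (x v) = cm (T * x u * T⁻¹) (T * x v * T⁻¹) := by
      have : cm (T * x u * T⁻¹) (T * x v * T⁻¹) = T * cm (x u) (x v) * T⁻¹ := by unfold cm; group
      rw [this, ← hcen u v T, mul_inv_cancel_right]
    have e4 : cm (z1 * x u) (z2 * (z3 * (x v * x c))) = cm (x u) (x v * x c) := by
      rw [cm_mul_central (hz _ hz2), cm_mul_central (hz _ hz3)]
      have := hz _ hz1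
      unfold cm
      calc z1 * x u * (x v * x c) * (z1 * x u)⁻¹ * (x v * x c)⁻¹
          = (z1 * (x u * (x v * x c) * (x u)⁻¹)) * z1⁻¹ * (x v * x c)⁻¹ := by group
        _ = ((x u * (x v * x c) * (x u)⁻¹) * z1) * z1⁻¹ * (x v * x c)⁻¹ := by rw [this]
        _ = _ := by group
    rw [hz1', hz2', hz3', e4, cm_mul_right (hcen u c)] at e3
    exact cm_eq_one.1 (left_eq_mul.1 e3)
  -- odd order elements commute with the lifts
  have hodd : ∀ c : L, π c ∈ O → ∀ v, c * x v = x v * c := by
    intro c hc v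
    have e1 : π (cm c (x v)) = 1 := by
      unfold cm
      rw [map_mul, map_mul, map_mul, map_inv, map_inv, hx, h.oc _ hc, mul_inv_cancel_right, mul_inv_cancel]
    have hcen := hz _ e1
    have e2 : c * x v * c⁻¹ = cm c (x v) * x v := cm_conj
    have hsq1 : cm c (x v) * cm c (x v) = 1 := by
      have e3 : (c * x v * c⁻¹) * (c * x v * c⁻¹) = x v * x v := by
        calc (c * x v * c⁻¹) * (c * x v * c⁻¹) = c * (x v * x v) * c⁻¹ := by group
          _ = (x v * x v * c) * c⁻¹ := by rw [hxsq v c]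
          _ = _ := by group
      rw [e2] at e3
      have e4 : cm c (x v) * x v * (cm c (x v) * x v) = cm c (x v) * cm c (x v) * (x v * x v) := by
        calc cm c (x v) * x v * (cm c (x v) * x v) = cm c (x v) * (x v * cm c (x v)) * x v := by group
          _ = cm c (x v) * (cm c (x v) * x v) * x v := by rw [hcen (x v)]
          _ = _ := by group
      rw [e4] at e3
      exact mul_eq_right.1 e3
    have hpow : ∀ n : ℕ, c ^ n * x v * (c ^ n)⁻¹ = cm c (x v) ^ n * x v := by
      intro n
      induction n with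
      | zero => simp
      | succ n ih =>
        calc c ^ (n + 1) * x v * (c ^ (n + 1))⁻¹ = c * (c ^ n * x v * (c ^ n)⁻¹) * c⁻¹ := by
              rw [pow_succ']; group
          _ = c * (cm c (x v) ^ n * x v) * c⁻¹ := by rw [ih]
          _ = (c * cm c (x v) ^ n) * x v * c⁻¹ := by group
          _ = (cm c (x v) ^ n * c) * x v * c⁻¹ := by
              have : Commute (cm c (x v)) c := hcen c
              rw [(this.pow_left n).eq]
          _ = cm c (x v) ^ n * (c * x v * c⁻¹) := by group
          _ = cm c (x v) ^ (n + 1) * x v := by rw [e2, pow_succ]; group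
    have hm := hpow (Nat.card O)
    have e5 : π (c ^ Nat.card O) = 1 := by
      rw [map_pow]
      have := pow_card_eq_one' (x := (⟨π c, hc⟩ : O))
      exact congrArg Subtype.val this
    rw [hz _ e5, mul_inv_cancel_right] at hm
    have e6 : cm c (x v) ^ Nat.card O = 1 := (right_eq_mul.1 hm)
    obtain ⟨m, hm'⟩ := h.odd
    rw [hm', pow_add, pow_mul, pow_two, hsq1, one_pow, one_mul, pow_one] at e6
    exact cm_eq_one.1 e6
  -- (2) the transvection commutes with the lifts of orthogonal vectors
  intro a v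
  by_cases ha : a = 0
  · rw [ha]; exact hx0 _
  rcases z2 (om a v) with hav | hav
  · exact hA1 a v hav
  obtain ⟨k, hkK, hk⟩ := h.exists_tv a
  obtain ⟨T, hT⟩ := hs k
  have hTconj : ∀ w, ∃ z, π z = 1 ∧ T * x w * T⁻¹ = z * x (tv a w) := by
    intro w
    exact hdiff _ _ (by rw [map_mul, map_mul, map_inv, hx, hT, hk])
  have hclaim2 : ∀ a', om a a' = 0 → a' ≠ 0 → a' ≠ a → T * x a' = x a' * T := by
    intro a' haa' ha'0 ha'a
    obtain ⟨k', hkK', hk'⟩ := h.exists_tv a'
    obtain ⟨T', hT'⟩ := hs k'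
    obtain ⟨w, hw1, hw2⟩ := exists_om_one_zero ha'0 ha ha'a
    -- conjugates
    obtain ⟨ζ, hζ, hζ'⟩ : ∃ z, π z = 1 ∧ T' * x w * T'⁻¹ = z * (x w * x a') := by
      obtain ⟨z1, hz1, hz1'⟩ := hdiff (T' * x w * T'⁻¹) (w + a') (by
        rw [map_mul, map_mul, map_inv, hx, hT', hk', tv_of_one hw1])
      obtain ⟨z2, hz2, hz2'⟩ := hxadd w a'
      exact ⟨z1 * z2, by rw [map_mul, hz1, hz2, one_mul], by rw [hz1', hz2']; group⟩
    obtain ⟨σ, hσ, hσ'⟩ := hTconj w
    rw [tv_of_zero hw2] at hσ'
    obtain ⟨τ, hτ, hτ'⟩ := hTconj a'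
    rw [tv_of_zero haa'] at hτ'
    have cζ := hz _ hζ
    have cσ := hz _ hσ
    have cτ := hz _ hτ
    -- the commutator of the two transvections is in `O`
    have hcO : π (cm T T') ∈ O := by
      apply h.k0c
      · unfold cm
        rw [map_mul, map_mul, map_mul, map_inv, map_inv, hT, hT']
        exact K0.mul_mem (K0.mul_mem (K0.mul_mem hkK hkK') (K0.inv_mem hkK)) (K0.inv_mem hkK')
      · intro y
        unfold cm
        rw [map_mul, map_mul, map_mul, map_inv, map_inv, hT, hT']
        -- `k k' = k' k` on `A`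
        have hcomm : ∀ y, k * (k' * th y * k'⁻¹) * k⁻¹ = k' * (k * th y * k⁻¹) * k'⁻¹ := by
          intro y
          rw [hk', hk, hk, hk']
          congr 1
          simp only [tv_apply, om_add_right, om_smul_right, haa', om_comm a' a, mul_zero, add_zero]
          abel
        have hinv : ∀ y, ∃ y', th y = k' * (k * th y' * k⁻¹) * k'⁻¹ := by
          intro y
          refine ⟨tv a (tv a' y), ?_⟩
          rw [hk, hk']
          congr 1
          simp only [tv_apply, om_add_right, om_smul_right, haa', om_comm a' a, mul_zero, add_zero, om_self]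
          have h1 : y + om a' y • a' + om a y • a + om a y • a + om a' y • a' = y := by
            calc y + om a' y • a' + om a y • a + om a y • a + om a' y • a'
                = y + (om a' y • a' + om a' y • a') + (om a y • a + om a y • a) := by abel
              _ = y := by rw [v_add_self, v_add_self, add_zero, add_zero]
          exact h1.symm
        obtain ⟨y', hy'⟩ := hinv y
        rw [hy']
        calc k * k' * k⁻¹ * k'⁻¹ * (k' * (k * th y' * k⁻¹) * k'⁻¹)
            = (k * (k' * th y' * k'⁻¹) * k⁻¹) * (k * k' * k⁻¹ * k'⁻¹) := by group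
          _ = _ := by rw [hcomm]
    have hcc := hodd _ hcO
    -- compare the two conjugates of `x w`
    have e1 : T * T' * x w * (T * T')⁻¹ = ζ * (σ * x w) * (τ * x a') := by
      calc T * T' * x w * (T * T')⁻¹ = T * (T' * x w * T'⁻¹) * T⁻¹ := by group
        _ = T * (ζ * (x w * x a')) * T⁻¹ := by rw [hζ']
        _ = (T * ζ) * x w * x a' * T⁻¹ := by group
        _ = (ζ * T) * x w * x a' * T⁻¹ := by rw [cζ T]
        _ = ζ * (T * x w * T⁻¹) * (T * x a' * T⁻¹) := by group
        _ = _ := by rw [hσ', hτ']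
    have e2 : T' * T * x w * (T' * T)⁻¹ = σ * (ζ * (x w * x a')) := by
      calc T' * T * x w * (T' * T)⁻¹ = T' * (T * x w * T⁻¹) * T'⁻¹ := by group
        _ = (T' * σ) * x w * T'⁻¹ := by rw [hσ']; group
        _ = (σ * T') * x w * T'⁻¹ := by rw [cσ T']
        _ = σ * (T' * x w * T'⁻¹) := by group
        _ = _ := by rw [hζ']
    have e3 : T * T' * x w * (T * T')⁻¹ = T' * T * x w * (T' * T)⁻¹ := by
      have e4 : T * T' = cm T T' * (T' * T) := cm_spec T T'
      have e5 : ∃ z, π z = 1 ∧ T' * T * x w * (T' * T)⁻¹ = z * (x w * x a') :=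
        ⟨σ * ζ, by rw [map_mul, hσ, hζ, one_mul], by rw [e2]; group⟩
      obtain ⟨z, hz1, hz2⟩ := e5
      have cz := hz _ hz1
      rw [e4]
      calc cm T T' * (T' * T) * x w * (cm T T' * (T' * T))⁻¹
          = cm T T' * (T' * T * x w * (T' * T)⁻¹) * (cm T T')⁻¹ := by group
        _ = cm T T' * (z * (x w * x a')) * (cm T T')⁻¹ := by rw [hz2]
        _ = (cm T T' * z) * x w * x a' * (cm T T')⁻¹ := by group
        _ = z * (cm T T' * x w) * x a' * (cm T T')⁻¹ := by rw [← cz]; group
        _ = z * x w * (cm T T' * x a') * (cm T T')⁻¹ := by rw [hcc w]; group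
        _ = z * (x w * x a') := by rw [hcc a']; group
        _ = _ := hz2.symm
    rw [e1, e2] at e3
    have e6 : ζ * (σ * x w) * (τ * x a') = τ * (σ * (ζ * (x w * x a'))) := by
      calc ζ * (σ * x w) * (τ * x a') = (ζ * σ) * ((x w * τ) * x a') := by group
        _ = (ζ * σ) * ((τ * x w) * x a') := by rw [← cτ]
        _ = (ζ * σ * τ) * (x w * x a') := by group
        _ = (τ * (σ * ζ)) * (x w * x a') := by rw [← cτ, cζ σ]
        _ = _ := by group
    rw [e6] at e3
    have e7 : τ = 1 := mul_eq_right.1 e3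
    rw [e7, one_mul, mul_inv_eq_iff_eq_mul] at hτ'
    exact hτ'
  -- (3) hence it commutes with the lift of `a`
  have hTa : T * x a = x a * T := by
    obtain ⟨c, hc1, hc2, hc3⟩ := exists_perp ha
    have h1 := hclaim2 c hc1 hc2 hc3
    have h2 := hclaim2 (a + c) (by rw [om_add_right, om_self, hc1, add_zero])
      (fun hh => hc3 ((add_eq_zero_iff _ _).1 hh).symm) (fun hh => hc2 (add_eq_left.1 hh))
    obtain ⟨z, hz1, hz2⟩ := hxadd c (a + c)
    have e1 : c + (a + c) = a := by rw [add_comm a c, self_add_add]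
    rw [e1] at hz2
    rw [hz2]
    calc T * (z * (x c * x (a + c))) = (T * z) * x c * x (a + c) := by group
      _ = z * (T * x c) * x (a + c) := by rw [← hz z hz1 T]; group
      _ = z * x c * (T * x (a + c)) := by rw [h1]; group
      _ = _ := by rw [h2]; group
  -- (4) the square relation
  obtain ⟨ζ, hζ, hζ'⟩ : ∃ z, π z = 1 ∧ T * x v * T⁻¹ = z * (x v * x a) := by
    obtain ⟨z1, hz1, hz1'⟩ := hTconj v
    rw [tv_of_one hav] at hz1'
    obtain ⟨z2, hz2, hz2'⟩ := hxadd v a
    exact ⟨z1 * z2, by rw [map_mul, hz1, hz2, one_mul], by rw [hz1', hz2']; group⟩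
  have cζ := hz _ hζ
  have hT2 : T * T * x v = x v * (T * T) := by
    apply hodd
    apply h.k0c
    · rw [map_mul, hT]; exact K0.mul_mem hkK hkK
    · intro y
      rw [map_mul, hT]
      have h1 : k * (k * th y * k⁻¹) * k⁻¹ = th y := by
        rw [hk, hk]
        congr 1
        have := (tv a).left_inv y
        exact this
      calc k * k * th y = (k * (k * th y * k⁻¹) * k⁻¹) * (k * k) := by group
        _ = _ := by rw [h1]
  -- `T² x_v T⁻² = ζ² x_v x_a²`
  have e1 : ζ * ζ * (x a * x a) = 1 := by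
    have e2 : T * T * x v * (T * T)⁻¹ = ζ * ζ * (x a * x a) * x v := by
      calc T * T * x v * (T * T)⁻¹ = T * (T * x v * T⁻¹) * T⁻¹ := by group
        _ = T * (ζ * (x v * x a)) * T⁻¹ := by rw [hζ']
        _ = (T * ζ) * x v * x a * T⁻¹ := by group
        _ = (ζ * T) * x v * x a * T⁻¹ := by rw [cζ T]
        _ = ζ * (T * x v * T⁻¹) * (T * x a) * T⁻¹ := by group
        _ = ζ * (ζ * (x v * x a)) * (x a * T) * T⁻¹ := by rw [hζ', hTa]
        _ = ζ * ζ * (x v * (x a * x a)) := by group
        _ = ζ * ζ * ((x a * x a) * x v) := by rw [hxsq a (x v)]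
        _ = _ := by group
    rw [hT2, mul_inv_cancel_right] at e2
    exact (right_eq_mul.1 e2)
  have e3 : (T * x v * T⁻¹) * (T * x v * T⁻¹) = x v * x v := by
    calc (T * x v * T⁻¹) * (T * x v * T⁻¹) = (T * (x v * x v)) * T⁻¹ := by group
      _ = (x v * x v * T) * T⁻¹ := by rw [hxsq v T]
      _ = _ := by group
  rw [hζ'] at e3
  have e4 : ζ * (x v * x a) * (ζ * (x v * x a)) = ζ * ζ * (x v * x a * x v * x a) := by
    calc ζ * (x v * x a) * (ζ * (x v * x a)) = ζ * ((x v * x a) * ζ) * (x v * x a) := by group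
      _ = ζ * (ζ * (x v * x a)) * (x v * x a) := by rw [← cζ (x v * x a)]
      _ = _ := by group
  rw [e4] at e3
  have e5 : ζ * ζ = (x a * x a)⁻¹ := eq_inv_of_mul_eq_one_left e1
  rw [e5, inv_mul_eq_iff_eq_mul] at e3
  -- `x_v x_a x_v x_a = x_a² x_v²`
  have e6 : x v * x a * x v * x a = x v * (x v * (x a * x a)) := by
    rw [e3, hxsq a (x v * x v)]; group
  have e7 : x a * x v * x a = x v * (x a * x a) := by
    have : x v * (x a * x v * x a) = x v * (x v * (x a * x a)) := by rw [← e6]; group
    exact mul_left_cancel this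
  have e8 : x a * x v * x a = x v * x a * x a := by rw [e7]; group
  exact mul_right_cancel e8

end Sit

end Cfsg.Agent.H336.SpSix
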