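import Cfsg.Agent.H336.SpSix.Iso
import Cfsg.Agent.S0765

/-!
# Faithful actions of `Sp_6(2)` on groups of order 64

If `Sp_6(2)` acts faithfully by automorphisms on an elementary abelian group `W` of order `64`, then `W` is the natural
module.
-/

set_option autoImplicit false

namespace Cfsg.Agent.H336.SpSix.Faith

open Cfsg.Agent.SporRec.TwoSp6 Cfsg.Agent.H336.SpSix

/-! ### an element of order five commuting with a transvection -/

/-- the element of order 5 -/
def y0 : S := Sp.tr (Sp.v 0) * (Sp.tr (Sp.v 2) * (Sp.tr (Sp.v 3) * Sp.tr (Sp.v 1)))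

/-- its action on codes -/
def yc (c : ℕ) : ℕ := Sp.st 0 (Sp.st 2 (Sp.st 3 (Sp.st 1 c)))

theorem act_y0 (c : ℕ) : Sp.act y0 (Sp.enc c) = Sp.enc (yc c) := by
  unfold y0 yc
  simp only [Sp.act_mul, Sp.act_enc]

theorem yc_five : ∀ c < 64, yc (yc (yc (yc (yc c)))) = c := by decide +kernel

theorem y0_pow : y0 * (y0 * (y0 * (y0 * y0))) = 1 := by
  apply Sp.act_ext
  intro x
  obtain ⟨c, hc, rfl⟩ := Sp.exists_enc x
  rw [Sp.act_one]
  simp only [Sp.act_mul, act_y0]
  rw [yc_five c hc]

theorem y0_ne : y0 ≠ 1 := by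
  intro h
  have h1 := act_y0 1
  rw [h, Sp.act_one] at h1
  have h2 : Sp.enc 1 ≠ Sp.enc (yc 1) := by decide +kernel
  exact h2 h1

theorem y0_comm : y0 * Sp.tr (Sp.v 6) = Sp.tr (Sp.v 6) * y0 := by
  have h : ∀ i : Fin 7, i = 0 ∨ i = 1 ∨ i = 2 ∨ i = 3 → Sp.tr (Sp.v i) * Sp.tr (Sp.v 6) = Sp.tr (Sp.v 6) * Sp.tr (Sp.v i) := by
    intro i hi
    apply Sp.tr_comm
    rw [Sp.om_v]
    rcases hi with rfl | rfl | rfl | rfl <;> decide
  unfold y0
  have e0 := h 0 (by simp)
  have e1 := h 1 (by simp)
  have e2 := h 2 (by simp)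
  have e3 := h 3 (by simp)
  rw [mul_assoc, mul_assoc, mul_assoc, e1, ← mul_assoc (Sp.tr (Sp.v 3)), e3, ← mul_assoc (Sp.tr (Sp.v 2)),
    ← mul_assoc (Sp.tr (Sp.v 2)), e2, ← mul_assoc (Sp.tr (Sp.v 0)), ← mul_assoc (Sp.tr (Sp.v 0)),
    ← mul_assoc (Sp.tr (Sp.v 0)), e0]
  simp only [mul_assoc]

/-! ### counting -/

theorem card_fix5 {X : Type*} [Finite X] (f : X → X) (hf : ∀ x, f (f (f (f (f x)))) = x) :
    Nat.card X ≡ Nat.card {x // f x = x} [MOD 5] := by
  classical
  have := Fintype.ofFinite X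
  have : Fact (Nat.Prime 5) := ⟨by norm_num⟩
  let f' : Function.End X := f
  have hf' : f' ^ 5 ^ 1 = 1 := by
    have h5 : f' ^ 5 = f' * (f' * (f' * (f' * f'))) := by
      simp only [pow_succ', pow_zero, mul_one]
    rw [pow_one, h5]
    funext x
    exact hf x
  have h := Equiv.Perm.card_fixedPoints_modEq hf'
  rw [Nat.card_eq_fintype_card, Nat.card_eq_fintype_card]
  refine h.trans ?_
  have e : Fintype.card (Function.fixedPoints f') = Fintype.card {x // f x = x} :=
    Fintype.card_congr (Equiv.refl _)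
  rw [e]

variable {W : Type*} [AddCommGroup W] [Finite W]

/-- fixed points of an endomorphism -/
def fix (α : W →+ W) : AddSubgroup W where
  carrier := {w | α w = w}
  zero_mem' := map_zero α
  add_mem' := fun {a b} ha hb => by
    change α (a + b) = a + b
    rw [map_add, show α a = a from ha, show α b = b from hb]
  neg_mem' := fun {a} ha => by
    change α (-a) = -a
    rw [map_neg, show α a = a from ha]

omit [Finite W] in
theorem mem_fix {α : W →+ W} {w : W} : w ∈ fix α ↔ α w = w := Iff.rfl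

/-- **the rank of the transvection** -/
theorem exists_center (hW : ∀ w : W, w + w = 0) (hc : Nat.card W = 64) (α β : W →+ W)
    (hα5 : ∀ w, α (α (α (α (α w)))) = w) (hα1 : ∃ w, α w ≠ w) (hβ2 : ∀ w, β (β w) = w) (hβ1 : ∃ w, β w ≠ w)
    (hab : ∀ w, α (β w) = β (α w)) : ∃ a, a ≠ 0 ∧ ∀ w, β w = w ∨ β w = w + a := by
  have hneg : ∀ w : W, -w = w := fun w => by rw [neg_eq_iff_add_eq_zero]; exact hW w
  let δ : W →+ W := β + AddMonoidHom.id W
  have hδ : ∀ w, δ w = β w + w := fun _ => rfl
  have hδδ : ∀ w, δ (δ w) = 0 := by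
    intro w
    rw [hδ, hδ, map_add, hβ2, add_comm w, hW]
  have hle : δ.range ≤ δ.ker := by
    rintro _ ⟨w, rfl⟩
    exact hδδ w
  have hrk : Nat.card δ.range * Nat.card δ.ker = 64 := by
    have h1 := δ.ker.card_eq_card_quotient_mul_card_addSubgroup
    rw [hc, Nat.card_congr (QuotientAddGroup.quotientKerEquivRange δ).toEquiv] at h1
    exact h1.symm
  have hd1 : Nat.card δ.range ∣ Nat.card δ.ker := AddSubgroup.card_dvd_of_le hle
  set d := Nat.card δ.range with hd
  have hd8 : d = 1 ∨ d = 2 ∨ d = 4 ∨ d = 8 := by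
    have h2 : d * d ∣ 64 := by
      rw [← hrk]; exact Nat.mul_dvd_mul_left _ hd1
    have h3 : d ≤ 8 := by
      by_contra h4
      have := Nat.le_of_dvd (by norm_num) h2
      nlinarith
    have h4 : 0 < d := Nat.card_pos
    interval_cases d <;> first | omega | (exfalso; revert h2; decide)
  -- `α` is trivial on the range
  have hfixd : ∀ w, α (δ w) = δ w := by
    have hinv : ∀ x : δ.range, α x ∈ δ.range := by
      rintro ⟨_, w, rfl⟩
      refine ⟨α w, ?_⟩
      change δ (α w) = α (δ w)
      rw [hδ, hδ, map_add, hab]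
    let f : δ.range → δ.range := fun x => ⟨α x, hinv x⟩
    have hf := card_fix5 f (fun x => Subtype.ext (hα5 x))
    have e : Nat.card {x : δ.range // f x = x} = Nat.card ((fix α).addSubgroupOf δ.range) := by
      refine Nat.card_congr (Equiv.subtypeEquivRight fun x => ?_)
      rw [AddSubgroup.mem_addSubgroupOf, mem_fix]
      exact Subtype.ext_iff
    rw [e, ← hd] at hf
    have hdv : Nat.card ((fix α).addSubgroupOf δ.range) ∣ d := AddSubgroup.card_addSubgroup_dvd_card _
    have hEq : Nat.card ((fix α).addSubgroupOf δ.range) = d := by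
      set f := Nat.card ((fix α).addSubgroupOf δ.range) with hf'
      clear_value f
      have hfle : f ≤ d := Nat.le_of_dvd (by omega) hdv
      rcases hd8 with h | h | h | h <;> rw [h] at hf hdv hfle ⊢ <;> interval_cases f <;>
        first | rfl | (exfalso; revert hf; decide) | (exfalso; revert hdv; decide)
    have htop := AddSubgroup.eq_top_of_card_eq _ (hEq.trans hd)
    intro w
    have h5 : (⟨δ w, w, rfl⟩ : δ.range) ∈ (fix α).addSubgroupOf δ.range := by rw [htop]; trivial
    exact mem_fix.1 (AddSubgroup.mem_addSubgroupOf.1 h5)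
  -- the fixed points of `α` on `W`
  have hF4 : Nat.card (fix α) = 4 := by
    have hf := card_fix5 α hα5
    rw [hc] at hf
    have e : Nat.card {x : W // α x = x} = Nat.card (fix α) := rfl
    rw [e] at hf
    have hdv : Nat.card (fix α) ∣ 64 := by rw [← hc]; exact AddSubgroup.card_addSubgroup_dvd_card _
    have h64 : Nat.card (fix α) ≠ 64 := by
      intro h
      have htop := AddSubgroup.eq_top_of_card_eq _ (h.trans hc.symm)
      obtain ⟨w, hw⟩ := hα1
      apply hw
      have : w ∈ fix α := by rw [htop]; trivial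
      exact this
    set f := Nat.card (fix α)
    clear_value f
    have h2 : f ∈ Nat.divisors 64 := Nat.mem_divisors.2 ⟨hdv, by norm_num⟩
    have h3 : Nat.divisors 64 = {1, 2, 4, 8, 16, 32, 64} := by decide
    rw [h3] at h2
    simp only [Finset.mem_insert, Finset.mem_singleton] at h2
    rcases h2 with h | h | h | h | h | h | h <;> rw [h] at hf h64 ⊢ <;>
      first | rfl | (exfalso; revert hf; decide) | exact absurd rfl h64
  -- the norm
  let nm : W →+ W := AddMonoidHom.id W + α + α.comp α + α.comp (α.comp α) + α.comp (α.comp (α.comp α))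
  have hnm : ∀ w, nm w = w + α w + α (α w) + α (α (α w)) + α (α (α (α w))) := fun _ => rfl
  have hnmfix : ∀ w, α (nm w) = nm w := by
    intro w
    rw [hnm]
    simp only [map_add, hα5]
    abel
  have hδnm : ∀ w, δ (nm w) = δ w := by
    intro w
    have hcomm : ∀ w, δ (α w) = α (δ w) := fun w => by rw [hδ, hδ, map_add, hab]
    rw [hnm]
    simp only [map_add, hcomm, hfixd]
    rw [hW, zero_add, hW, zero_add]
  -- `d ≤ 2`
  let δF : fix α →+ W := δ.comp (fix α).subtype
  have hrF : δF.range = δ.range := by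
    ext x
    constructor
    · rintro ⟨w, rfl⟩
      exact ⟨w, rfl⟩
    · rintro ⟨w, rfl⟩
      exact ⟨⟨nm w, hnmfix w⟩, hδnm w⟩
  have hrkF : Nat.card δF.range * Nat.card δF.ker = 4 := by
    have h1 := δF.ker.card_eq_card_quotient_mul_card_addSubgroup
    rw [hF4, Nat.card_congr (QuotientAddGroup.quotientKerEquivRange δF).toEquiv] at h1
    exact h1.symm
  rw [hrF, ← hd] at hrkF
  have hdk : d ≤ Nat.card δF.ker := by
    rw [hd]
    refine Nat.card_le_card_of_injective (fun x : δ.range => (⟨⟨x, ?_⟩, ?_⟩ : δF.ker)) ?_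
    · obtain ⟨_, w, rfl⟩ := x
      exact hfixd w
    · obtain ⟨_, w, rfl⟩ := x
      exact hδδ w
    · intro x y hxy
      have := congrArg (fun z : δF.ker => ((z : fix α) : W)) hxy
      exact Subtype.ext this
  have hd2 : d = 2 := by
    have h1 : d ≠ 1 := by
      intro h1
      have hb : δ.range = ⊥ := AddSubgroup.card_eq_one.1 (hd ▸ h1)
      obtain ⟨w, hw⟩ := hβ1
      apply hw
      have : δ w ∈ δ.range := ⟨w, rfl⟩
      rw [hb, AddSubgroup.mem_bot, hδ] at this
      rw [eq_neg_of_add_eq_zero_left this, hneg]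
    rcases hd8 with h | h | h | h
    · exact absurd h h1
    · exact h
    · nlinarith
    · nlinarith
  -- the centre
  have hd0 : δ.range ≠ ⊥ := by
    intro h
    rw [h, AddSubgroup.card_bot] at hd
    omega
  obtain ⟨⟨a, ha⟩, ha0⟩ := AddSubgroup.ne_bot_iff_exists_ne_zero.1 hd0
  have ha0' : a ≠ 0 := fun h => ha0 (Subtype.ext h)
  refine ⟨a, ha0', fun w => ?_⟩
  by_cases hw : δ w = 0
  · left
    rw [hδ] at hw
    rw [eq_neg_of_add_eq_zero_left hw, hneg]
  · right
    have h2 : δ w = a := by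
      obtain ⟨y, hy, hy'⟩ := (Nat.card_eq_two_iff' (0 : δ.range)).1 (hd ▸ hd2)
      have h3 := hy' ⟨a, ha⟩ ha0
      have h4 := hy' ⟨δ w, w, rfl⟩ (fun h => hw (congrArg Subtype.val h))
      exact congrArg Subtype.val (h4.trans h3.symm)
    rw [← h2, hδ, add_comm, add_assoc, hW, add_zero]

/-! ### the natural module -/

theorem v_add_self' (v : V) : v + v = 0 := v_add_self v

theorem natural (hW : ∀ w : W, w + w = 0) (hc : Nat.card W = 64) (ρ : S →* AddMonoid.End W)
    (hρ : Function.Injective ρ) : ∃ c : V → W, (∀ u v, c (u + v) = c u + c v) ∧ Function.Injective c ∧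
      ∀ s v, ρ s (c v) = c (Sp.act s v) := by
  classical
  have hneg : ∀ w : W, -w = w := fun w => by rw [neg_eq_iff_add_eq_zero]; exact hW w
  have hmul : ∀ s t w, ρ (s * t) w = ρ s (ρ t w) := fun s t w => by rw [map_mul]; rfl
  have hone : ∀ w, ρ 1 w = w := fun w => by rw [map_one]; rfl
  have hinv : ∀ s w, ρ s⁻¹ (ρ s w) = w := fun s w => by rw [← hmul, inv_mul_cancel, hone]
  have hinv' : ∀ s w, ρ s (ρ s⁻¹ w) = w := fun s w => by rw [← hmul, mul_inv_cancel, hone]
  have htr2 : ∀ v w, ρ (Sp.tr v) (ρ (Sp.tr v) w) = w := fun v w => by rw [← hmul, Sp.tr_sq, hone]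
  have hext : ∀ s t, (∀ w, ρ s w = ρ t w) → s = t := fun s t h => hρ (AddMonoidHom.ext h)
  -- the centres
  have hcen : ∀ v : V, v ≠ 0 → ∃ a, a ≠ 0 ∧ ∀ w, ρ (Sp.tr v) w = w ∨ ρ (Sp.tr v) w = w + a := by
    have hmv : ∀ s : S, s ≠ 1 → ∃ w, ρ s w ≠ w := by
      intro s hs
      by_contra h
      push Not at h
      exact hs (hext s 1 fun w => by rw [h, hone])
    have e1 : ∀ w, ρ y0 (ρ y0 (ρ y0 (ρ y0 (ρ y0 w)))) = w := by
      intro w
      have h5 := y0_pow
      simp only [← mul_assoc] at h5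
      rw [← hmul, ← hmul, ← hmul, ← hmul, h5, hone]
    have e2 : ∃ w, ρ (Sp.tr (Sp.v 6)) w ≠ w := by
      apply hmv
      intro h
      have h1 := Sp.v_ne 6
      obtain ⟨x, hx⟩ := Sp.exists_om_one h1
      have h2 := Sp.act_tr (Sp.v 6) x
      rw [h, Sp.act_one, Sp.om_symm, hx, one_smul] at h2
      exact h1 (left_eq_add.1 h2)
    have e3 : ∀ w, ρ y0 (ρ (Sp.tr (Sp.v 6)) w) = ρ (Sp.tr (Sp.v 6)) (ρ y0 w) := by
      intro w
      rw [← hmul, ← hmul, y0_comm]
    obtain ⟨a, ha, haw⟩ := exists_center hW hc (ρ y0) (ρ (Sp.tr (Sp.v 6))) e1 (hmv _ y0_ne) (htr2 _) e2 e3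
    replace haw : ∀ w, ρ (Sp.tr (Sp.v 6)) w = w ∨ ρ (Sp.tr (Sp.v 6)) w = w + a := haw
    intro v hv
    obtain ⟨s, hs⟩ := Sp.exists_act (Sp.v_ne 6) hv
    refine ⟨ρ s a, fun h => ha (by rw [← hinv s a, h, map_zero]), fun w => ?_⟩
    have h1 : Sp.tr v = s * (Sp.tr (Sp.v 6) * s⁻¹) := by
      rw [← mul_assoc, Sp.conj_tr, hs]
    rw [h1, hmul, hmul]
    rcases haw (ρ s⁻¹ w) with h2 | h2
    · left; rw [h2, hinv']
    · right; rw [h2, map_add, hinv']
  have huniq : ∀ v a b, v ≠ 0 → (∀ w, ρ (Sp.tr v) w = w ∨ ρ (Sp.tr v) w = w + a) →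
      (∀ w, ρ (Sp.tr v) w = w ∨ ρ (Sp.tr v) w = w + b) → a = b := by
    intro v a b hv ha hb
    obtain ⟨w, hw⟩ : ∃ w, ρ (Sp.tr v) w ≠ w := by
      by_contra h
      push Not at h
      have h1 : Sp.tr v = 1 := hext _ _ fun w => by rw [h, hone]
      obtain ⟨x, hx⟩ := Sp.exists_om_one hv
      have h2 := Sp.act_tr v x
      rw [h1, Sp.act_one, Sp.om_symm, hx, one_smul] at h2
      exact hv (left_eq_add.1 h2)
    have h1 := (ha w).resolve_left hw
    have h2 := (hb w).resolve_left hw
    exact add_left_cancel (h1.symm.trans h2)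
  let c : V → W := fun v => if h : v ≠ 0 then (hcen v h).choose else 0
  have hc0 : c 0 = 0 := by simp [c]
  have hcn : ∀ v, v ≠ 0 → c v ≠ 0 := by
    intro v hv
    simp only [c, dif_pos hv]
    exact (hcen v hv).choose_spec.1
  have hcw : ∀ v, v ≠ 0 → ∀ w, ρ (Sp.tr v) w = w ∨ ρ (Sp.tr v) w = w + c v := by
    intro v hv
    simp only [c, dif_pos hv]
    exact (hcen v hv).choose_spec.2
  have hact0 : ∀ s : S, Sp.act s 0 = 0 := fun s => (actE s).map_zero
  have heq : ∀ s v, ρ s (c v) = c (Sp.act s v) := by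
    intro s v
    by_cases hv : v = 0
    · rw [hv, hact0, hc0, map_zero]
    · have hsv : Sp.act s v ≠ 0 := fun h => hv ((actE s).map_eq_zero_iff.1 h)
      refine huniq (Sp.act s v) _ _ hsv (fun w => ?_) (hcw _ hsv)
      have h1 : Sp.tr (Sp.act s v) = s * (Sp.tr v * s⁻¹) := by rw [← mul_assoc, Sp.conj_tr]
      rw [h1, hmul, hmul]
      rcases hcw v hv (ρ s⁻¹ w) with h2 | h2
      · left; rw [h2, hinv']
      · right; rw [h2, map_add, hinv']
  -- injectivity
  have hinj1 : ∀ u v, Sp.om u v = 1 → c u ≠ c v := by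
    intro u v huv h
    have hu : u ≠ 0 := by
      rintro rfl
      rw [om_eq, om_zero_left] at huv
      exact absurd huv (by decide)
    have hv : v ≠ 0 := by
      rintro rfl
      rw [om_eq, om_zero_right] at huv
      exact absurd huv (by decide)
    have hfix : ∀ v, v ≠ 0 → ρ (Sp.tr v) (c v) = c v := by
      intro v hv
      rw [heq, Sp.act_tr, Sp.om_self, zero_smul, add_zero]
    have hcom : Sp.tr u * Sp.tr v = Sp.tr v * Sp.tr u := by
      apply hext
      intro w
      rw [hmul, hmul]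
      have hfu := hfix u hu
      have hfv := hfix v hv
      rcases hcw u hu w with h1 | h1 <;> rcases hcw v hv w with h2 | h2
      · rw [h1, h2, h1]
      · rw [h1, h2, map_add, h1, ← h, hfu]
      · rw [h1, h2, map_add, h2, h, hfv, h1, h]
      · rw [h1, h2, map_add, map_add, h1, h2, ← h, hfu, h, hfv]
    have h1 := congrArg (fun s => Sp.act s v) hcom
    simp only [Sp.act_mul, Sp.act_tr, Sp.om_self, zero_smul, add_zero] at h1
    rw [Sp.om_symm v u, huv, one_smul, Sp.om_add', Sp.om_self, huv, zero_add, one_smul] at h1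
    have h2 : v + u = u := by
      calc v + u = v + u + v := h1
        _ = u + (v + v) := by abel
        _ = u := by rw [v_add_self', add_zero]
    exact hv (add_eq_right.1 h2)
  have hinj : ∀ u v, u ≠ 0 → v ≠ 0 → c u = c v → u = v := by
    intro u v hu hv h
    by_contra hne
    rcases Sp.om_cases u v with h0 | h0
    · obtain ⟨x, hx1, hx2⟩ := Sp.exists_om_one_zero hv (Ne.symm hne)
      have h1 := congrArg (ρ (Sp.tr x)) h
      rw [heq, heq, Sp.act_tr, Sp.act_tr, hx1, hx2, zero_smul, add_zero, one_smul] at h1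
      exact hinj1 v (v + x) (by rw [Sp.om_add, Sp.om_self, hx1, zero_add]) (h.symm.trans h1)
    · exact hinj1 u v h0 h
  have hadd1 : ∀ u v, Sp.om u v = 1 → c (u + v) = c u + c v := by
    intro u v huv
    have hu : u ≠ 0 := by
      rintro rfl
      rw [om_eq, om_zero_left] at huv
      exact absurd huv (by decide)
    have hv : v ≠ 0 := by
      rintro rfl
      rw [om_eq, om_zero_right] at huv
      exact absurd huv (by decide)
    have huv0 : u + v ≠ 0 := by
      intro h
      have : u = v := (add_eq_zero_iff _ _).1 h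
      rw [this, Sp.om_self] at huv
      exact absurd huv (by decide)
    have h1 := heq (Sp.tr u) v
    rw [Sp.act_tr, Sp.om_symm, huv, one_smul] at h1
    rcases hcw u hu (c v) with h2 | h2
    · rw [h2] at h1
      have := hinj v (v + u) hv (by rwa [add_comm]) h1
      exact absurd (left_eq_add.1 this) hu
    · rw [h2] at h1
      rw [add_comm u v, ← h1, add_comm]
  -- the fixed submodule
  let C : AddSubgroup W :=
    { carrier := {w | ∀ u, ρ (Sp.tr u) w = w}
      zero_mem' := fun u => map_zero _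
      add_mem' := fun {a b} ha hb u => by rw [map_add, ha u, hb u]
      neg_mem' := fun {a} ha u => by rw [map_neg, ha u] }
  have hC : ∀ w, w ∈ C ↔ ∀ u, ρ (Sp.tr u) w = w := fun _ => Iff.rfl
  have hf : ∀ u v, c (u + v) + c u + c v ∈ C := by
    intro u v
    rcases Sp.om_cases u v with h0 | h0
    · intro x
      rw [map_add, map_add, heq, heq, heq, Sp.act_tr, Sp.act_tr, Sp.act_tr, Sp.om_add']
      rcases Sp.om_cases u x with h1 | h1 <;> rcases Sp.om_cases v x with h2 | h2
      · simp only [h1, h2, add_zero, zero_smul]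
      · simp only [h1, h2, add_zero, zero_add, zero_smul, one_smul]
        rw [hadd1 (u + v) x (by rw [Sp.om_add', h1, h2, zero_add]), hadd1 v x h2]
        calc c (u + v) + c x + c u + (c v + c x) = c (u + v) + c u + c v + (c x + c x) := by abel
          _ = _ := by rw [hW, add_zero]
      · simp only [h1, h2, add_zero, zero_smul, one_smul]
        rw [hadd1 (u + v) x (by rw [Sp.om_add', h1, h2, add_zero]), hadd1 u x h1]
        calc c (u + v) + c x + (c u + c x) + c v = c (u + v) + c u + c v + (c x + c x) := by abel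
          _ = _ := by rw [hW, add_zero]
      · have h3 : (1 : ZMod 2) + 1 = 0 := by decide
        simp only [h1, h2, h3, add_zero, zero_smul, one_smul]
        rw [hadd1 u x h1, hadd1 v x h2]
        calc c (u + v) + (c u + c x) + (c v + c x) = c (u + v) + c u + c v + (c x + c x) := by abel
          _ = _ := by rw [hW, add_zero]
    · rw [hadd1 u v h0]
      have : c u + c v + c u + c v = 0 := by
        calc c u + c v + c u + c v = (c u + c u) + (c v + c v) := by abel
          _ = 0 := by rw [hW, hW, add_zero]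
      rw [this]
      exact C.zero_mem
  have hγ : Function.Injective (fun v : V => (QuotientAddGroup.mk (c v) : W ⧸ C)) := by
    intro u v huv
    have h1 : c u + c v ∈ C := by
      have := QuotientAddGroup.eq.1 huv
      rwa [hneg] at this
    have h2 : c (u + v) ∈ C := by
      have h3 := C.add_mem (hf u v) h1
      have h4 : c (u + v) + c u + c v + (c u + c v) = c (u + v) := by
        calc c (u + v) + c u + c v + (c u + c v) = c (u + v) + (c u + c u) + (c v + c v) := by abel
          _ = _ := by rw [hW, hW, add_zero, add_zero]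
      rwa [h4] at h3
    by_contra hne
    have h0 : u + v ≠ 0 := fun h => hne ((add_eq_zero_iff _ _).1 h)
    obtain ⟨x, hx⟩ := Sp.exists_om_one h0
    have h3 := (hC _).1 h2 x
    rw [heq, Sp.act_tr, hx, one_smul] at h3
    refine hinj1 (u + v) (u + v + x) ?_ h3.symm
    rw [Sp.om_add, Sp.om_self, hx, zero_add]
  have hC1 : C = ⊥ := by
    have h1 := C.card_eq_card_quotient_mul_card_addSubgroup
    have h2 : 64 ≤ Nat.card (W ⧸ C) := by
      have h3 := Nat.card_le_card_of_injective _ hγ
      have h4 : Nat.card V = 64 := by simp [V]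
      rwa [h4] at h3
    have h3 : 0 < Nat.card C := Nat.card_pos
    rw [hc] at h1
    have h4 : Nat.card C = 1 := by nlinarith
    exact AddSubgroup.card_eq_one.1 h4
  have hadd : ∀ u v, c (u + v) = c u + c v := by
    intro u v
    have h1 := hf u v
    rw [hC1, AddSubgroup.mem_bot, add_assoc, add_eq_zero_iff_eq_neg, hneg] at h1
    exact h1
  refine ⟨c, hadd, fun u v huv => ?_, heq⟩
  by_contra hne
  have h0 : u + v ≠ 0 := fun h => hne ((add_eq_zero_iff _ _).1 h)
  apply hcn _ h0
  rw [hadd, huv, hW]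

end Cfsg.Agent.H336.SpSix.Faith
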