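import Cfsg.Agent.H336.SpSix.Basic
import Cfsg.Agent.H446.TopBound
import Cfsg.Agent.SignalizersComponents.PConstrained
import Cfsg.Agent.S0205
import Cfsg.Agent.Lib.NormalAbelian

/-!
# Reduction to a simple normal subgroup with trivial centraliser
-/

set_option autoImplicit false

namespace Cfsg.Agent.H336.SpSix

open Subgroup Pointwise Cfsg Cfsg.Agent.SporRec.TwoSp6
open Cfsg.Agent.SignalizersComponents.Components Cfsg.Agent.H369.Socle

/-- a 2-subgroup in which `A` is self-normalising -/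
theorem eq_of_inf_normalizer_le {G : Type*} [Group G] [Finite G] {P A : Subgroup G} (hP : IsPGroup 2 P) (hA : A ≤ P)
    (h : P ⊓ normalizer (A : Set G) ≤ A) : P = A := by
  have : Fact (Nat.Prime 2) := ⟨Nat.prime_two⟩
  by_contra hne
  have hnil : Group.IsNilpotent P := hP.isNilpotent
  have hlt : A.subgroupOf P < ⊤ := by
    rw [lt_top_iff_ne_top, Ne, subgroupOf_eq_top]
    exact fun h1 => hne (le_antisymm h1 hA)
  obtain ⟨h1, h2⟩ := SetLike.lt_iff_le_and_exists.1 (Group.normalizerCondition_of_isNilpotent _ hlt)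
  obtain ⟨⟨x, hxP⟩, hx, hxA⟩ := h2
  apply hxA
  rw [mem_subgroupOf]
  refine h ⟨hxP, ?_⟩
  change x ∈ normalizer (A : Set G)
  rw [mem_normalizer_iff] at hx ⊢
  intro a
  constructor
  · intro ha
    have := (hx ⟨a, hA ha⟩).1 (mem_subgroupOf.2 ha)
    exact mem_subgroupOf.1 this
  · intro ha
    have haP : a ∈ P := by
      have h3 := P.mul_mem (P.mul_mem (P.inv_mem hxP) (hA ha)) hxP
      have h4 : x⁻¹ * (x * a * x⁻¹) * x = a := by group
      rwa [h4] at h3
    have := (hx ⟨a, haP⟩).2 (mem_subgroupOf.2 ha)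
    exact mem_subgroupOf.1 this

namespace Sit

variable {G : Type*} [Group G] {th : V → G} {O K0 : Subgroup G}

theorem inv_all (h : Sit th O K0) (M : Subgroup G) (hM : ∀ k ∈ K0, ∀ x ∈ M, k * x * k⁻¹ ∈ M) {v : V}
    (hv : v ≠ 0) (hvM : th v ∈ M) (u : V) : th u ∈ M := by
  by_cases hu : u = 0
  · rw [hu, h.zero]; exact M.one_mem
  · obtain ⟨k, hk, hk'⟩ := h.exists_conj hv hu
    rw [← hk']
    exact hM k hk _ hvM

/-- a normal 2-subgroup of `N` lies in `A` -/
theorem le_of_pgroup_normal [Finite G] (h : Sit th O K0) (R : Subgroup G) (hR : IsPGroup 2 R)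
    (hn : (R.subgroupOf (normalizer (h.A : Set G))).Normal) : R ⊓ normalizer (h.A : Set G) ≤ h.A := by
  rcases h.normal_cases (R.subgroupOf (normalizer (h.A : Set G))) with h2 | h2
  · rintro x ⟨hx, hxN⟩
    have h3 : (⟨x, hxN⟩ : normalizer (h.A : Set G)) ∈ h.rep.ker := h2 (mem_subgroupOf.2 hx)
    rw [MonoidHom.mem_ker, h.rep_eq_one] at h3
    exact h.mem_of_pgroup hR hx h3
  · exfalso
    have h3 : IsPGroup 2 (R.subgroupOf (normalizer (h.A : Set G))) := hR.comap_of_injective _ (subtype_injective _)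
    have h4 : IsPGroup 2 (⊤ : Subgroup S) := by
      rw [← h2]
      exact h3.map _
    have : Fact (Nat.Prime 2) := ⟨Nat.prime_two⟩
    rw [IsPGroup.iff_card, card_top, card_S] at h4
    obtain ⟨n, hn⟩ := h4
    have h5 : 3 ∣ 2 ^ n := by rw [← hn]; decide
    exact absurd (Nat.Prime.dvd_of_dvd_pow Nat.prime_three h5) (by decide)

/-- a normal 2-subgroup -/
theorem pgroup_normal [Finite G] (h : Sit th O K0) (R : Subgroup G) [hRn : R.Normal] (hR : IsPGroup 2 R) :
    R = ⊥ ∨ R = h.A := by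
  have h1 := h.le_of_pgroup_normal R hR inferInstance
  by_cases h2 : ∃ v, v ≠ 0 ∧ th v ∈ R
  · right
    obtain ⟨v, hv, hvR⟩ := h2
    have hA : h.A ≤ R := by
      rintro _ ⟨u, rfl⟩
      exact h.inv_all R (fun k _ x hx => hRn.conj_mem x hx k) hv hvR u
    exact eq_of_inf_normalizer_le hR hA h1
  · left
    push Not at h2
    have h3 : IsPGroup 2 (R ⊔ h.A : Subgroup G) := hR.to_sup_of_normal_left h.isPGroup_A
    have h4 : R ⊔ h.A = h.A := by
      refine eq_of_inf_normalizer_le h3 le_sup_right ?_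
      rintro x ⟨hx, hxN⟩
      obtain ⟨r, hr, a, ha, rfl⟩ := mem_sup_of_normal_left.1 hx
      have hrN : r ∈ normalizer (h.A : Set G) := by
        have := (normalizer (h.A : Set G)).mul_mem hxN ((normalizer (h.A : Set G)).inv_mem (le_normalizer ha))
        rwa [mul_inv_cancel_right] at this
      exact mul_mem (h1 ⟨hr, hrN⟩) ha
    rw [eq_bot_iff]
    intro r hr
    have h5 : r ∈ h.A := by rw [← h4]; exact mem_sup_left hr
    obtain ⟨v, rfl⟩ := h5
    by_cases hv : v = 0
    · rw [hv, h.zero]; exact one_mem _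
    · exact absurd hr (h2 v hv)

/-- a normal subgroup of even order contains `A` -/
theorem A_le_of_even [Finite G] (h : Sit th O K0) (M : Subgroup G) [hM : M.Normal] (h2 : 2 ∣ Nat.card M) : h.A ≤ M := by
  have : Fact (Nat.Prime 2) := ⟨Nat.prime_two⟩
  obtain ⟨P, hP⟩ := h.isPGroup_A.exists_le_sylow
  -- `P ∩ M` is a nontrivial normal subgroup of `P`
  have hne : M.subgroupOf (P : Subgroup G) ≠ ⊥ := by
    obtain ⟨x, hx⟩ := exists_prime_orderOf_dvd_card' 2 h2
    have hxo : orderOf (x : G) = 2 := by rw [orderOf_coe]; exact hx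
    have hxp : IsPGroup 2 (zpowers (x : G)) := by
      rw [IsPGroup.iff_card]; exact ⟨1, by rw [Nat.card_zpowers, hxo, pow_one]⟩
    obtain ⟨Q, hQ⟩ := hxp.exists_le_sylow
    obtain ⟨g, hg⟩ := MulAction.exists_smul_eq G Q P
    have h3 : g * x * g⁻¹ ∈ P := by
      rw [← hg]
      change g * x * g⁻¹ ∈ (MulAut.conj g) • (Q : Subgroup G)
      rw [Subgroup.mem_pointwise_smul_iff_inv_smul_mem]
      have h5 : (MulAut.conj g)⁻¹ • (g * (x : G) * g⁻¹) = x := by
        rw [← map_inv, MulAut.smul_def, MulAut.conj_apply]; group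
      rw [h5]
      exact hQ (mem_zpowers _)
    have h4 : g * x * g⁻¹ ∈ M := hM.conj_mem _ x.2 g
    intro hb
    have h5 : (⟨_, h3⟩ : P) ∈ M.subgroupOf (P : Subgroup G) := mem_subgroupOf.2 h4
    rw [hb, mem_bot] at h5
    have h6 : g * (x : G) * g⁻¹ = 1 := congrArg Subtype.val h5
    rw [mul_inv_eq_one, mul_eq_left] at h6
    rw [h6, orderOf_one] at hxo
    exact absurd hxo (by decide)
  obtain ⟨z, hzM, hz1, hzc⟩ : ∃ z : P, z ∈ M.subgroupOf (P : Subgroup G) ∧ z ≠ 1 ∧ z ∈ center P := by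
    have hnil : Group.IsNilpotent (P : Subgroup G) := P.2.isNilpotent
    have h3 := Cfsg.Agent.Lib.NormalAbelian.normal_inf_center_ne_bot (M.subgroupOf (P : Subgroup G)) hne
    obtain ⟨z, hz1⟩ := Subgroup.ne_bot_iff_exists_ne_one.1 h3
    exact ⟨z, z.2.1, fun hh => hz1 (Subtype.ext hh), z.2.2⟩
  have hzA : (z : G) ∈ h.A := h.mem_of_pgroup P.2 z.2 fun v =>
    (congrArg Subtype.val (mem_center_iff.1 hzc ⟨_, hP (h.th_mem v)⟩)).symm
  obtain ⟨v, hv⟩ := hzA
  have hv0 : v ≠ 0 := by
    rintro rfl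
    rw [h.zero] at hv
    exact hz1 (Subtype.ext hv.symm)
  rintro _ ⟨u, rfl⟩
  refine h.inv_all M (fun k _ x hx => hM.conj_mem x hx k) hv0 ?_ u
  rw [hv]
  exact mem_subgroupOf.1 hzM

/-- the simple normal subgroup -/
theorem exists_simple [Finite G] (h : Sit th O K0) (hO : oddCore G = ⊥) (hN : ¬ h.A.Normal) :
    ∃ K : Subgroup G, K.Normal ∧ IsSimpleGroup K ∧ ¬ IsMulCommutative K ∧ centralizer (K : Set G) = ⊥ ∧
      ∀ v, th v ∈ K := by
  have : Fact (Nat.Prime 2) := ⟨Nat.prime_two⟩
  have h2core : pCore 2 G = ⊥ := by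
    rcases h.pgroup_normal (pCore 2 G) (Cfsg.Agent.Lib.Cores.pCore_isPGroup 2) with h1 | h1
    · exact h1
    · exact absurd (h1 ▸ (inferInstance : (pCore 2 G).Normal)) hN
  have hR : NoSol G := by
    apply Cfsg.Agent.H446.TopBound.noSol_of_fitting
    rw [Cfsg.Agent.SignalizersComponents.PConstrained.fittingSubgroup_eq_pCore_of_pPrimeCore_eq_bot 2 hO, h2core]
  obtain ⟨v0, hv0⟩ : ∃ v : V, v ≠ 0 := exists_ne 0
  have hth0 : th v0 ≠ 1 := fun hh => hv0 ((h.eq_one_iff _).1 hh)
  have heven : ∀ C : Subgroup G, IsComponent C → 2 ∣ Nat.card C := by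
    intro C hC
    by_contra hodd
    have h1 := Cfsg.Agent.S0205.result (G := C) (by rwa [← Nat.not_even_iff_odd, even_iff_two_dvd])
    exact quasisimple_not_isSolvable hC.2 h1
  -- a component not centralised by `A`
  obtain ⟨K, hK, x0, hx0, v1, hv1⟩ : ∃ C : Subgroup G, IsComponent C ∧ ∃ x ∈ C, ∃ v, th v * x * (th v)⁻¹ ≠ x := by
    by_contra hc
    push Not at hc
    exact hth0 (eq_one_of_centralizes hR fun C hC x hx => hc C hC x hx v0)
  have hKs : IsSimpleGroup K := isSimple hR hK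
  have hKc : ∀ x ∈ K, (∀ y ∈ K, x * y = y * x) → x = 1 := by
    intro x hx hc
    have h1 : (⟨x, hx⟩ : K) ∈ center K := mem_center_iff.2 fun y => Subtype.ext (hc y y.2).symm
    rw [center_eq_bot hR hK, mem_bot] at h1
    exact congrArg Subtype.val h1
  have hAE : h.A ≤ layer G := by
    have hn : (layer G).Normal := layer_normal G
    exact h.A_le_of_even (layer G) ((heven K hK).trans (card_dvd_of_le (component_le_layer hK)))
  -- the product decomposition
  let T : Subgroup G :=
    { carrier := {x | ∃ k ∈ K, ∃ c, (∀ y ∈ K, c * y = y * c) ∧ x = k * c}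
      one_mem' := ⟨1, K.one_mem, 1, fun y _ => by rw [one_mul, mul_one], (mul_one 1).symm⟩
      mul_mem' := by
        rintro _ _ ⟨k, hk, c, hc, rfl⟩ ⟨k', hk', c', hc', rfl⟩
        refine ⟨k * k', K.mul_mem hk hk', c * c', fun y hy => ?_, ?_⟩
        · rw [mul_assoc, hc' y hy, ← mul_assoc, hc y hy, mul_assoc]
        · rw [mul_assoc, ← mul_assoc c, hc k' hk', mul_assoc, mul_assoc]
      inv_mem' := by
        rintro _ ⟨k, hk, c, hc, rfl⟩
        refine ⟨k⁻¹, K.inv_mem hk, c⁻¹, fun y hy => ?_, ?_⟩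
        · rw [inv_mul_eq_iff_eq_mul, ← mul_assoc, hc y hy, mul_inv_cancel_right]
        · rw [mul_inv_rev, inv_mul_eq_iff_eq_mul, ← mul_assoc, hc _ (K.inv_mem hk), mul_inv_cancel_right] }
  have hT : layer G ≤ T := by
    rw [layer_le_iff]
    intro D hD x hx
    by_cases hDK : D = K
    · subst hDK
      exact ⟨x, hx, 1, fun y _ => by rw [one_mul, mul_one], (mul_one _).symm⟩
    · exact ⟨1, K.one_mem, x, fun y hy => comm_of_ne hD hK hDK hx hy, (one_mul _).symm⟩
  have hdec : ∀ v, ∃ k ∈ K, ∃ c, (∀ y ∈ K, c * y = y * c) ∧ th v = k * c := fun v => hT (hAE (h.th_mem v))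
  -- the components lie in `A`
  have hkA : ∀ v k c, k ∈ K → (∀ y ∈ K, c * y = y * c) → th v = k * c → k ∈ h.A := by
    intro v k c hk hc hv
    refine h.mem_of_mul_self (fun u => ?_) ?_
    · obtain ⟨k', hk', c', hc', hu⟩ := hdec u
      have h1 := h.comm v u
      rw [hv, hu] at h1
      have h2 : (k' * k)⁻¹ * (k * k') = 1 := by
        have h3 : (k' * k)⁻¹ * (k * k') = (c' * c) * (c * c')⁻¹ := by
          rw [inv_mul_eq_iff_eq_mul, ← mul_assoc, eq_mul_inv_iff_mul_eq]
          calc k * k' * (c * c') = k * (c * k') * c' := by rw [hc k' hk']; group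
            _ = k * c * (k' * c') := by group
            _ = k' * c' * (k * c) := h1
            _ = k' * (c' * k) * c := by group
            _ = k' * (k * c') * c := by rw [hc' k hk]
            _ = _ := by group
        refine hKc _ (K.mul_mem (K.inv_mem (K.mul_mem hk' hk)) (K.mul_mem hk hk')) fun y hy => ?_
        rw [h3]
        have hcc : ∀ y ∈ K, (c' * c) * y = y * (c' * c) := fun y hy => by
          rw [mul_assoc, hc y hy, ← mul_assoc, hc' y hy, mul_assoc]
        have hcc' : ∀ y ∈ K, (c * c')⁻¹ * y = y * (c * c')⁻¹ := fun y hy => by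
          rw [inv_mul_eq_iff_eq_mul, ← mul_assoc]
          have : c * c' * y = y * (c * c') := by rw [mul_assoc, hc' y hy, ← mul_assoc, hc y hy, mul_assoc]
          rw [this, mul_inv_cancel_right]
        rw [mul_assoc, hcc' y hy, ← mul_assoc, hcc y hy, mul_assoc]
      rw [inv_mul_eq_one] at h2
      rw [hu, ← mul_assoc, ← h2, mul_assoc, mul_assoc, hc' k hk]
    · have h1 := h.sq v
      rw [hv] at h1
      refine hKc _ (K.mul_mem hk hk) fun y hy => ?_
      have h2 : k * k = (c * c)⁻¹ := by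
        rw [eq_inv_iff_mul_eq_one, ← h1]
        calc k * k * (c * c) = k * (k * c) * c := by group
          _ = k * (c * k) * c := by rw [hc k hk]
          _ = _ := by group
      rw [h2, inv_mul_eq_iff_eq_mul, ← mul_assoc]
      have : c * c * y = y * (c * c) := by rw [mul_assoc, hc y hy, ← mul_assoc, hc y hy, mul_assoc]
      rw [this, mul_inv_cancel_right]
  -- a nonzero element of `A ∩ K`
  obtain ⟨v, hv, hvK⟩ : ∃ v, v ≠ 0 ∧ th v ∈ K := by
    obtain ⟨k, hk, c, hc, h1⟩ := hdec v1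
    obtain ⟨w, hw⟩ := hkA v1 k c hk hc h1
    refine ⟨w, ?_, by rw [hw]; exact hk⟩
    rintro rfl
    rw [h.zero] at hw
    rw [← hw, one_mul] at h1
    rw [h1] at hv1
    exact hv1 (by rw [hc x0 hx0, mul_inv_cancel_right])
  have hAK : ∀ u, th u ∈ K := by
    intro u
    obtain ⟨k, hk, c, hc, h1⟩ := hdec u
    obtain ⟨w, hw⟩ := hkA u k c hk hc h1
    have hcA : c = th (w + u) := by
      rw [h.add, hw, h1, ← mul_assoc]
      have := h.sq w
      rw [hw] at this
      rw [this, one_mul]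
    by_cases hwu : w + u = 0
    · rw [hwu, h.zero] at hcA
      rw [h1, hcA, mul_one]
      exact hk
    · exfalso
      have hne : v + (w + u) ≠ 0 := by
        intro hh
        have h2 : v = w + u := (add_eq_zero_iff _ _).1 hh
        apply hth0
        exfalso
        apply hv
        rw [← h.eq_one_iff]
        refine hKc _ hvK fun y hy => ?_
        rw [h2, ← hcA]
        exact hc y hy
      obtain ⟨n, -, hn⟩ := h.exists_conj hv hne
      have hD : IsComponent (K.map (MulAut.conj n).toMonoidHom) := isComponent_conj n hK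
      have hmem : th (v + (w + u)) ∈ K.map (MulAut.conj n).toMonoidHom := ⟨th v, hvK, hn⟩
      rw [h.add, ← hcA] at hmem
      by_cases hDK : K.map (MulAut.conj n).toMonoidHom = K
      · rw [hDK] at hmem
        have h2 : c ∈ K := by
          have := K.mul_mem (K.inv_mem hvK) hmem
          rwa [inv_mul_cancel_left] at this
        have h3 : c = 1 := hKc c h2 hc
        rw [h3] at hcA
        exact hwu ((h.eq_one_iff _).1 hcA.symm)
      · have h2 : ∀ y ∈ K, th v * c * y = y * (th v * c) := fun y hy => comm_of_ne hD hK hDK hmem hy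
        apply hv
        rw [← h.eq_one_iff]
        refine hKc _ hvK fun y hy => ?_
        have h3 := h2 y hy
        rw [mul_assoc, hc y hy, ← mul_assoc, ← mul_assoc] at h3
        exact mul_right_cancel h3
  -- uniqueness
  have huniq : ∀ D : Subgroup G, IsComponent D → D = K := by
    intro D hD
    by_contra hne
    obtain ⟨x, hx⟩ := exists_prime_orderOf_dvd_card' 2 (heven D hD)
    have hxo : orderOf (x : G) = 2 := by rw [orderOf_coe]; exact hx
    have hx2 : (x : G) * x = 1 := by rw [← pow_two, ← hxo, pow_orderOf_eq_one]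
    obtain ⟨u, hu⟩ := h.mem_of_mul_self (x := x) (fun u => comm_of_ne hD hK hne x.2 (hAK u)) hx2
    have h1 : (x : G) = 1 := hKc x (hu ▸ hAK u) fun y hy => comm_of_ne hD hK hne x.2 hy
    rw [h1, orderOf_one] at hxo
    exact absurd hxo (by decide)
  refine ⟨K, ⟨fun x hx g => ?_⟩, hKs, quasisimple_not_isMulCommutative hK.2, ?_, hAK⟩
  · have h1 := huniq _ (isComponent_conj g hK)
    rw [← h1]
    exact ⟨x, hx, rfl⟩
  · rw [eq_bot_iff]
    intro x hx
    rw [mem_bot]
    refine eq_one_of_centralizes hR fun C hC y hy => ?_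
    rw [huniq C hC] at hy
    rw [← mem_centralizer_iff.1 hx y hy, mul_inv_cancel_right]

/-- restriction to a normal subgroup containing `A`, in which `N_K(A)` does not centralise `A` -/
theorem sub [Finite G] (h : Sit th O K0) (K : Subgroup G) [hKn : K.Normal] (hK : ∀ v, th v ∈ K)
    (hn : ∃ n ∈ K, n ∈ normalizer (h.A : Set G) ∧ ∃ v, n * th v ≠ th v * n) :
    Sit (fun v => (⟨th v, hK v⟩ : K)) (O.subgroupOf K) (K0.subgroupOf K) := by
  have hsurj : ∀ s : S, ∃ n ∈ K, ∃ hn : n ∈ normalizer (h.A : Set G), h.rep ⟨n, hn⟩ = s := by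
    rcases h.normal_cases (K.subgroupOf (normalizer (h.A : Set G))) with h1 | h1
    · exfalso
      obtain ⟨n, hnK, hnN, v, hv⟩ := hn
      have h2 : (⟨n, hnN⟩ : normalizer (h.A : Set G)) ∈ h.rep.ker := h1 (mem_subgroupOf.2 hnK)
      rw [MonoidHom.mem_ker, h.rep_eq_one] at h2
      exact hv (h2 v)
    · intro s
      have h2 : s ∈ (⊤ : Subgroup S) := trivial
      rw [← h1] at h2
      obtain ⟨⟨n, hnN⟩, hnK, rfl⟩ := h2
      exact ⟨n, mem_subgroupOf.1 hnK, hnN, rfl⟩
  exact
    { add := fun u v => Subtype.ext (h.add u v)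
      inj := fun u v huv => h.inj (congrArg Subtype.val huv)
      odd := by
        have h1 : Nat.card (O.subgroupOf K) ∣ Nat.card O := by
          rw [← Nat.card_congr ((O.subgroupOf K).equivMapOfInjective _ K.subtype_injective).toEquiv.symm]
          refine card_dvd_of_le ?_
          rw [subgroupOf_map_subtype]
          exact inf_le_left
        exact h.odd.of_dvd_nat h1
      oc := fun x hx v => Subtype.ext (h.oc x (mem_subgroupOf.1 hx) v)
      oN := fun x hx n hn => by
        rw [mem_subgroupOf] at hx ⊢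
        refine h.oN x hx n fun v => ?_
        obtain ⟨u, hu⟩ := hn v
        exact ⟨u, congrArg Subtype.val hu⟩
      cent := fun x hx => by
        obtain ⟨o, ho, v, hv⟩ := h.cent x fun v => congrArg Subtype.val (hx v)
        have hoK : o ∈ K := by
          have : o = x * (th v)⁻¹ := by rw [hv, mul_inv_cancel_right]
          rw [this]
          exact K.mul_mem x.2 (K.inv_mem (hK v))
        exact ⟨⟨o, hoK⟩, mem_subgroupOf.2 ho, v, Subtype.ext hv⟩
      act := fun n hn u v u' v' h1 h2 => by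
        refine h.act n (fun v => ?_) u v u' v' (congrArg Subtype.val h1) (congrArg Subtype.val h2)
        obtain ⟨u, hu⟩ := hn v
        exact ⟨u, congrArg Subtype.val hu⟩
      k0 := fun k hk v => by
        obtain ⟨u, hu⟩ := h.k0 k (mem_subgroupOf.1 hk) v
        exact ⟨u, Subtype.ext hu⟩
      le := fun x hx => mem_subgroupOf.2 (h.le (mem_subgroupOf.1 hx))
      k0c := fun k hk hc => mem_subgroupOf.2 (h.k0c k (mem_subgroupOf.1 hk) fun v => congrArg Subtype.val (hc v))
      full := fun g hg => by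
        obtain ⟨k, hk, hk'⟩ := h.full g hg
        obtain ⟨n, hnK, hnN, hnk⟩ := hsurj (h.rep ⟨k, h.K0_le hk⟩)
        obtain ⟨o, ho, w, hw⟩ := h.cent (k * n⁻¹) fun v => by
          have h1 : h.rep ⟨k * n⁻¹, mul_mem (h.K0_le hk) (inv_mem hnN)⟩ = 1 := by
            have : (⟨k * n⁻¹, mul_mem (h.K0_le hk) (inv_mem hnN)⟩ : normalizer (h.A : Set G)) =
                ⟨k, h.K0_le hk⟩ * ⟨n, hnN⟩⁻¹ := rfl
            rw [this, map_mul, map_inv, hnk, mul_inv_cancel]
          exact (h.rep_eq_one _).1 h1 v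
        have h2 : o⁻¹ * k = th w * n := by
          rw [inv_mul_eq_iff_eq_mul, ← mul_assoc, ← hw, inv_mul_cancel_right]
        have h3 : o⁻¹ * k ∈ K := by rw [h2]; exact K.mul_mem (hK w) hnK
        refine ⟨⟨o⁻¹ * k, h3⟩, mem_subgroupOf.2 (K0.mul_mem (K0.inv_mem (h.le ho)) hk), fun v => Subtype.ext ?_⟩
        change o⁻¹ * k * th v * (o⁻¹ * k)⁻¹ = th (g v)
        rw [← hk' v]
        have h4 := h.oc o ho (g v)
        rw [← hk' v] at h4
        calc o⁻¹ * k * th v * (o⁻¹ * k)⁻¹ = o⁻¹ * (k * th v * k⁻¹ * o) := by group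
          _ = o⁻¹ * (o * (k * th v * k⁻¹)) := by rw [h4]
          _ = _ := by group }

end Sit

end Cfsg.Agent.H336.SpSix
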